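import Mathlib
import Cfsg.Agent.TcData.SY224c.I28431.Tab

set_option autoImplicit false
set_option Elab.async false
set_option maxRecDepth 100000
set_option linter.all false

namespace Cfsg.Agent.TcData.SY224c.I28431

open Cfsg.Spor Cfsg.Agent.Lib.TcFacts Cfsg.Agent.Lib.TcBits Cfsg.Agent.Lib.TcPres Cfsg.Agent.Lib.SchurDefs.Y224c Cfsg.Agent.TcData.SY224c

theorem b79 : Block F al 20224 20480 0 :=
  block_of_check (k := 8) rfl (by decide +kernel)

theorem b80 : Block F al 20480 20736 25 :=
  block_of_check (k := 8) rfl (by decide +kernel)

theorem b81 : Block F al 20736 20992 14 :=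
  block_of_check (k := 8) rfl (by decide +kernel)

theorem b82 : Block F al 20992 21248 0 :=
  block_of_check (k := 8) rfl (by decide +kernel)

theorem b83 : Block F al 21248 21504 0 :=
  block_of_check (k := 8) rfl (by decide +kernel)

theorem b84 : Block F al 21504 21760 1 :=
  block_of_check (k := 8) rfl (by decide +kernel)

theorem b85 : Block F al 21760 22016 10 :=
  block_of_check (k := 8) rfl (by decide +kernel)

theorem b86 : Block F al 22016 22272 54 :=
  block_of_check (k := 8) rfl (by decide +kernel)

theorem b87 : Block F al 22272 22528 29 :=
  block_of_check (k := 8) rfl (by decide +kernel)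

theorem b88 : Block F al 22528 22784 90 :=
  block_of_check (k := 8) rfl (by decide +kernel)

theorem b89 : Block F al 22784 23040 113 :=
  block_of_check (k := 8) rfl (by decide +kernel)

theorem b90 : Block F al 23040 23296 81 :=
  block_of_check (k := 8) rfl (by decide +kernel)

theorem b91 : Block F al 23296 23552 82 :=
  block_of_check (k := 8) rfl (by decide +kernel)

theorem b92 : Block F al 23552 23808 168 :=
  block_of_check (k := 8) rfl (by decide +kernel)

theorem b93 : Block F al 23808 24064 238 :=
  block_of_check (k := 8) rfl (by decide +kernel)

theorem b94 : Block F al 24064 24320 115 :=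
  block_of_check (k := 8) rfl (by decide +kernel)

theorem b95 : Block F al 24320 24576 145 :=
  block_of_check (k := 8) rfl (by decide +kernel)

theorem b96 : Block F al 24576 24832 25 :=
  block_of_check (k := 8) rfl (by decide +kernel)

theorem b97 : Block F al 24832 25088 60 :=
  block_of_check (k := 8) rfl (by decide +kernel)

theorem b98 : Block F al 25088 25344 51 :=
  block_of_check (k := 8) rfl (by decide +kernel)

theorem b99 : Block F al 25344 25600 91 :=
  block_of_check (k := 8) rfl (by decide +kernel)

theorem b100 : Block F al 25600 25856 43 :=
  block_of_check (k := 8) rfl (by decide +kernel)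

theorem b101 : Block F al 25856 26112 19 :=
  block_of_check (k := 8) rfl (by decide +kernel)

theorem b102 : Block F al 26112 26368 47 :=
  block_of_check (k := 8) rfl (by decide +kernel)

theorem b103 : Block F al 26368 26624 48 :=
  block_of_check (k := 8) rfl (by decide +kernel)

theorem b104 : Block F al 26624 26880 12 :=
  block_of_check (k := 8) rfl (by decide +kernel)

theorem b105 : Block F al 26880 27136 10 :=
  block_of_check (k := 8) rfl (by decide +kernel)

theorem b106 : Block F al 27136 27392 82 :=
  block_of_check (k := 8) rfl (by decide +kernel)

theorem b107 : Block F al 27392 27648 37 :=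
  block_of_check (k := 8) rfl (by decide +kernel)

theorem b108 : Block F al 27648 27904 27 :=
  block_of_check (k := 8) rfl (by decide +kernel)

theorem b109 : Block F al 27904 28160 0 :=
  block_of_check (k := 8) rfl (by decide +kernel)

theorem b110 : Block F al 28160 28416 7 :=
  block_of_check (k := 8) rfl (by decide +kernel)

theorem b111 : Block F al 28416 28672 11 :=
  block_of_check (k := 8) rfl (by decide +kernel)

theorem b112 : Block F al 28672 28928 0 :=
  block_of_check (k := 8) rfl (by decide +kernel)

theorem b113 : Block F al 28928 29184 0 :=
  block_of_check (k := 8) rfl (by decide +kernel)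

theorem b114 : Block F al 29184 29440 0 :=
  block_of_check (k := 8) rfl (by decide +kernel)

theorem b115 : Block F al 29440 29696 0 :=
  block_of_check (k := 8) rfl (by decide +kernel)

theorem b116 : Block F al 29696 29952 2 :=
  block_of_check (k := 8) rfl (by decide +kernel)

theorem b117 : Block F al 29952 30208 7 :=
  block_of_check (k := 8) rfl (by decide +kernel)

theorem b118 : Block F al 30208 30464 32 :=
  block_of_check (k := 8) rfl (by decide +kernel)

theorem b119 : Block F al 30464 30720 35 :=
  block_of_check (k := 8) rfl (by decide +kernel)

theorem b120 : Block F al 30720 30976 28 :=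
  block_of_check (k := 8) rfl (by decide +kernel)

theorem b121 : Block F al 30976 31232 72 :=
  block_of_check (k := 8) rfl (by decide +kernel)

theorem b122 : Block F al 31232 31488 106 :=
  block_of_check (k := 8) rfl (by decide +kernel)

theorem b123 : Block F al 31488 31744 107 :=
  block_of_check (k := 8) rfl (by decide +kernel)

theorem b124 : Block F al 31744 32000 98 :=
  block_of_check (k := 8) rfl (by decide +kernel)

end Cfsg.Agent.TcData.SY224c.I28431
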