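import Mathlib
import Cfsg.Agent.TcData.SY224c.I28431.Tab

set_option autoImplicit false
set_option Elab.async false
set_option maxRecDepth 100000
set_option linter.all false

namespace Cfsg.Agent.TcData.SY224c.I28431

open Cfsg.Spor Cfsg.Agent.Lib.TcFacts Cfsg.Agent.Lib.TcBits Cfsg.Agent.Lib.TcPres Cfsg.Agent.Lib.SchurDefs.Y224c Cfsg.Agent.TcData.SY224c

theorem b125 : Block F al 32000 32256 51 :=
  block_of_check (k := 8) rfl (by decide +kernel)

theorem b126 : Block F al 32256 32512 84 :=
  block_of_check (k := 8) rfl (by decide +kernel)

theorem b127 : Block F al 32512 32768 161 :=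
  block_of_check (k := 8) rfl (by decide +kernel)

theorem b128 : Block F al 32768 33024 221 :=
  block_of_check (k := 8) rfl (by decide +kernel)

theorem b129 : Block F al 33024 33280 179 :=
  block_of_check (k := 8) rfl (by decide +kernel)

theorem b130 : Block F al 33280 33536 61 :=
  block_of_check (k := 8) rfl (by decide +kernel)

theorem b131 : Block F al 33536 33792 149 :=
  block_of_check (k := 8) rfl (by decide +kernel)

theorem b132 : Block F al 33792 34048 4 :=
  block_of_check (k := 8) rfl (by decide +kernel)

theorem b133 : Block F al 34048 34304 12 :=
  block_of_check (k := 8) rfl (by decide +kernel)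

theorem b134 : Block F al 34304 34560 56 :=
  block_of_check (k := 8) rfl (by decide +kernel)

theorem b135 : Block F al 34560 34816 33 :=
  block_of_check (k := 8) rfl (by decide +kernel)

theorem b136 : Block F al 34816 35072 58 :=
  block_of_check (k := 8) rfl (by decide +kernel)

theorem b137 : Block F al 35072 35328 74 :=
  block_of_check (k := 8) rfl (by decide +kernel)

theorem b138 : Block F al 35328 35584 0 :=
  block_of_check (k := 8) rfl (by decide +kernel)

theorem b139 : Block F al 35584 35840 13 :=
  block_of_check (k := 8) rfl (by decide +kernel)

theorem b140 : Block F al 35840 36096 4 :=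
  block_of_check (k := 8) rfl (by decide +kernel)

theorem b141 : Block F al 36096 36352 59 :=
  block_of_check (k := 8) rfl (by decide +kernel)

theorem b142 : Block F al 36352 36608 30 :=
  block_of_check (k := 8) rfl (by decide +kernel)

theorem b143 : Block F al 36608 36864 27 :=
  block_of_check (k := 8) rfl (by decide +kernel)

theorem b144 : Block F al 36864 37120 0 :=
  block_of_check (k := 8) rfl (by decide +kernel)

theorem b145 : Block F al 37120 37376 12 :=
  block_of_check (k := 8) rfl (by decide +kernel)

theorem b146 : Block F al 37376 37632 47 :=
  block_of_check (k := 8) rfl (by decide +kernel)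

theorem b147 : Block F al 37632 37888 34 :=
  block_of_check (k := 8) rfl (by decide +kernel)

theorem b148 : Block F al 37888 38144 0 :=
  block_of_check (k := 8) rfl (by decide +kernel)

theorem b149 : Block F al 38144 38400 22 :=
  block_of_check (k := 8) rfl (by decide +kernel)

theorem b150 : Block F al 38400 38656 0 :=
  block_of_check (k := 8) rfl (by decide +kernel)

theorem b151 : Block F al 38656 38912 1 :=
  block_of_check (k := 8) rfl (by decide +kernel)

theorem b152 : Block F al 38912 39168 2 :=
  block_of_check (k := 8) rfl (by decide +kernel)

theorem b153 : Block F al 39168 39424 3 :=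
  block_of_check (k := 8) rfl (by decide +kernel)

theorem b154 : Block F al 39424 39680 0 :=
  block_of_check (k := 8) rfl (by decide +kernel)

theorem b155 : Block F al 39680 39936 0 :=
  block_of_check (k := 8) rfl (by decide +kernel)

theorem b156 : Block F al 39936 40192 0 :=
  block_of_check (k := 8) rfl (by decide +kernel)

theorem b157 : Block F al 40192 40448 0 :=
  block_of_check (k := 8) rfl (by decide +kernel)

theorem b158 : Block F al 40448 40704 0 :=
  block_of_check (k := 8) rfl (by decide +kernel)

theorem b159 : Block F al 40704 40960 0 :=
  block_of_check (k := 8) rfl (by decide +kernel)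

theorem b160 : Block F al 40960 41216 0 :=
  block_of_check (k := 8) rfl (by decide +kernel)

theorem b161 : Block F al 41216 41472 3 :=
  block_of_check (k := 8) rfl (by decide +kernel)

theorem b162 : Block F al 41472 41728 35 :=
  block_of_check (k := 8) rfl (by decide +kernel)

theorem b163 : Block F al 41728 41984 0 :=
  block_of_check (k := 8) rfl (by decide +kernel)

theorem b164 : Block F al 41984 42240 40 :=
  block_of_check (k := 8) rfl (by decide +kernel)

theorem b165 : Block F al 42240 42496 32 :=
  block_of_check (k := 8) rfl (by decide +kernel)

theorem b166 : Block F al 42496 42752 97 :=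
  block_of_check (k := 8) rfl (by decide +kernel)

theorem b167 : Block F al 42752 43008 0 :=
  block_of_check (k := 8) rfl (by decide +kernel)

theorem b168 : Block F al 43008 43264 125 :=
  block_of_check (k := 8) rfl (by decide +kernel)

theorem b169 : Block F al 43264 43520 148 :=
  block_of_check (k := 8) rfl (by decide +kernel)

theorem b170 : Block F al 43520 43776 57 :=
  block_of_check (k := 8) rfl (by decide +kernel)

theorem b171 : Block F al 43776 44032 80 :=
  block_of_check (k := 8) rfl (by decide +kernel)

theorem b172 : Block F al 44032 44288 24 :=
  block_of_check (k := 8) rfl (by decide +kernel)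

theorem b173 : Block F al 44288 44544 38 :=
  block_of_check (k := 8) rfl (by decide +kernel)

end Cfsg.Agent.TcData.SY224c.I28431
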