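import Mathlib
import Cfsg.Agent.TcData.SY224c.I28431.Tab

set_option autoImplicit false
set_option Elab.async false
set_option maxRecDepth 100000
set_option linter.all false

namespace Cfsg.Agent.TcData.SY224c.I28431

open Cfsg.Spor Cfsg.Agent.Lib.TcFacts Cfsg.Agent.Lib.TcBits Cfsg.Agent.Lib.TcPres Cfsg.Agent.Lib.SchurDefs.Y224c Cfsg.Agent.TcData.SY224c

theorem b174 : Block F al 44544 44800 125 :=
  block_of_check (k := 8) rfl (by decide +kernel)

theorem b175 : Block F al 44800 45056 147 :=
  block_of_check (k := 8) rfl (by decide +kernel)

theorem b176 : Block F al 45056 45312 173 :=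
  block_of_check (k := 8) rfl (by decide +kernel)

theorem b177 : Block F al 45312 45568 201 :=
  block_of_check (k := 8) rfl (by decide +kernel)

theorem b178 : Block F al 45568 45824 126 :=
  block_of_check (k := 8) rfl (by decide +kernel)

theorem b179 : Block F al 45824 46080 31 :=
  block_of_check (k := 8) rfl (by decide +kernel)

theorem b180 : Block F al 46080 46336 143 :=
  block_of_check (k := 8) rfl (by decide +kernel)

theorem b181 : Block F al 46336 46592 50 :=
  block_of_check (k := 8) rfl (by decide +kernel)

theorem b182 : Block F al 46592 46848 0 :=
  block_of_check (k := 8) rfl (by decide +kernel)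

theorem b183 : Block F al 46848 47104 8 :=
  block_of_check (k := 8) rfl (by decide +kernel)

theorem b184 : Block F al 47104 47360 43 :=
  block_of_check (k := 8) rfl (by decide +kernel)

theorem b185 : Block F al 47360 47616 4 :=
  block_of_check (k := 8) rfl (by decide +kernel)

theorem b186 : Block F al 47616 47872 27 :=
  block_of_check (k := 8) rfl (by decide +kernel)

theorem b187 : Block F al 47872 48128 44 :=
  block_of_check (k := 8) rfl (by decide +kernel)

theorem b188 : Block F al 48128 48384 36 :=
  block_of_check (k := 8) rfl (by decide +kernel)

theorem b189 : Block F al 48384 48640 26 :=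
  block_of_check (k := 8) rfl (by decide +kernel)

theorem b190 : Block F al 48640 48896 0 :=
  block_of_check (k := 8) rfl (by decide +kernel)

theorem b191 : Block F al 48896 49152 0 :=
  block_of_check (k := 8) rfl (by decide +kernel)

theorem b192 : Block F al 49152 49408 12 :=
  block_of_check (k := 8) rfl (by decide +kernel)

theorem b193 : Block F al 49408 49664 0 :=
  block_of_check (k := 8) rfl (by decide +kernel)

theorem b194 : Block F al 49664 49920 49 :=
  block_of_check (k := 8) rfl (by decide +kernel)

theorem b195 : Block F al 49920 50176 6 :=
  block_of_check (k := 8) rfl (by decide +kernel)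

theorem b196 : Block F al 50176 50432 40 :=
  block_of_check (k := 8) rfl (by decide +kernel)

theorem b197 : Block F al 50432 50688 0 :=
  block_of_check (k := 8) rfl (by decide +kernel)

theorem b198 : Block F al 50688 50944 0 :=
  block_of_check (k := 8) rfl (by decide +kernel)

theorem b199 : Block F al 50944 51200 0 :=
  block_of_check (k := 8) rfl (by decide +kernel)

theorem b200 : Block F al 51200 51456 6 :=
  block_of_check (k := 8) rfl (by decide +kernel)

theorem b201 : Block F al 51456 51712 27 :=
  block_of_check (k := 8) rfl (by decide +kernel)

theorem b202 : Block F al 51712 51968 12 :=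
  block_of_check (k := 8) rfl (by decide +kernel)

theorem b203 : Block F al 51968 52224 9 :=
  block_of_check (k := 8) rfl (by decide +kernel)

theorem b204 : Block F al 52224 52480 0 :=
  block_of_check (k := 8) rfl (by decide +kernel)

theorem b205 : Block F al 52480 52736 12 :=
  block_of_check (k := 8) rfl (by decide +kernel)

theorem b206 : Block F al 52736 52992 0 :=
  block_of_check (k := 8) rfl (by decide +kernel)

theorem b207 : Block F al 52992 53248 0 :=
  block_of_check (k := 8) rfl (by decide +kernel)

theorem b208 : Block F al 53248 53504 0 :=
  block_of_check (k := 8) rfl (by decide +kernel)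

theorem b209 : Block F al 53504 53760 0 :=
  block_of_check (k := 8) rfl (by decide +kernel)

theorem b210 : Block F al 53760 54016 0 :=
  block_of_check (k := 8) rfl (by decide +kernel)

theorem b211 : Block F al 54016 54272 0 :=
  block_of_check (k := 8) rfl (by decide +kernel)

theorem b212 : Block F al 54272 54528 0 :=
  block_of_check (k := 8) rfl (by decide +kernel)

theorem b213 : Block F al 54528 54784 0 :=
  block_of_check (k := 8) rfl (by decide +kernel)

theorem b214 : Block F al 54784 55040 0 :=
  block_of_check (k := 8) rfl (by decide +kernel)

theorem b215 : Block F al 55040 55296 0 :=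
  block_of_check (k := 8) rfl (by decide +kernel)

theorem b216 : Block F al 55296 55552 0 :=
  block_of_check (k := 8) rfl (by decide +kernel)

theorem b217 : Block F al 55552 55808 0 :=
  block_of_check (k := 8) rfl (by decide +kernel)

theorem b218 : Block F al 55808 56064 0 :=
  block_of_check (k := 8) rfl (by decide +kernel)

theorem b219 : Block F al 56064 56320 0 :=
  block_of_check (k := 8) rfl (by decide +kernel)

theorem b220 : Block F al 56320 56576 0 :=
  block_of_check (k := 8) rfl (by decide +kernel)

theorem b221 : Block F al 56576 56832 1 :=
  block_of_check (k := 8) rfl (by decide +kernel)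

theorem b222 : Block F al 56832 57088 30 :=
  block_of_check (k := 8) rfl (by decide +kernel)

theorem b223 : Block F al 57088 57344 0 :=
  block_of_check (k := 8) rfl (by decide +kernel)

theorem b224 : Block F al 57344 57600 7 :=
  block_of_check (k := 8) rfl (by decide +kernel)

theorem b225 : Block F al 57600 57856 34 :=
  block_of_check (k := 8) rfl (by decide +kernel)

theorem b226 : Block F al 57856 58112 26 :=
  block_of_check (k := 8) rfl (by decide +kernel)

theorem b227 : Block F al 58112 58368 9 :=
  block_of_check (k := 8) rfl (by decide +kernel)

theorem b228 : Block F al 58368 58624 112 :=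
  block_of_check (k := 8) rfl (by decide +kernel)

end Cfsg.Agent.TcData.SY224c.I28431
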