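import Mathlib
import Cfsg.Agent.TcData.SY224c.I28431.Tab

set_option autoImplicit false
set_option Elab.async false
set_option maxRecDepth 100000
set_option linter.all false

namespace Cfsg.Agent.TcData.SY224c.I28431

open Cfsg.Spor Cfsg.Agent.Lib.TcFacts Cfsg.Agent.Lib.TcBits Cfsg.Agent.Lib.TcPres Cfsg.Agent.Lib.SchurDefs.Y224c Cfsg.Agent.TcData.SY224c

theorem b229 : Block F al 58624 58880 0 :=
  block_of_check (k := 8) rfl (by decide +kernel)

theorem b230 : Block F al 58880 59136 156 :=
  block_of_check (k := 8) rfl (by decide +kernel)

theorem b231 : Block F al 59136 59392 67 :=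
  block_of_check (k := 8) rfl (by decide +kernel)

theorem b232 : Block F al 59392 59648 121 :=
  block_of_check (k := 8) rfl (by decide +kernel)

theorem b233 : Block F al 59648 59904 34 :=
  block_of_check (k := 8) rfl (by decide +kernel)

theorem b234 : Block F al 59904 60160 126 :=
  block_of_check (k := 8) rfl (by decide +kernel)

theorem b235 : Block F al 60160 60416 0 :=
  block_of_check (k := 8) rfl (by decide +kernel)

theorem b236 : Block F al 60416 60672 32 :=
  block_of_check (k := 8) rfl (by decide +kernel)

theorem b237 : Block F al 60672 60928 21 :=
  block_of_check (k := 8) rfl (by decide +kernel)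

theorem b238 : Block F al 60928 61184 79 :=
  block_of_check (k := 8) rfl (by decide +kernel)

theorem b239 : Block F al 61184 61440 110 :=
  block_of_check (k := 8) rfl (by decide +kernel)

theorem b240 : Block F al 61440 61696 111 :=
  block_of_check (k := 8) rfl (by decide +kernel)

theorem b241 : Block F al 61696 61952 106 :=
  block_of_check (k := 8) rfl (by decide +kernel)

theorem b242 : Block F al 61952 62208 162 :=
  block_of_check (k := 8) rfl (by decide +kernel)

theorem b243 : Block F al 62208 62464 145 :=
  block_of_check (k := 8) rfl (by decide +kernel)

theorem b244 : Block F al 62464 62720 102 :=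
  block_of_check (k := 8) rfl (by decide +kernel)

theorem b245 : Block F al 62720 62976 18 :=
  block_of_check (k := 8) rfl (by decide +kernel)

theorem b246 : Block F al 62976 63232 58 :=
  block_of_check (k := 8) rfl (by decide +kernel)

theorem b247 : Block F al 63232 63488 141 :=
  block_of_check (k := 8) rfl (by decide +kernel)

theorem b248 : Block F al 63488 63744 19 :=
  block_of_check (k := 8) rfl (by decide +kernel)

theorem b249 : Block F al 63744 64000 0 :=
  block_of_check (k := 8) rfl (by decide +kernel)

theorem b250 : Block F al 64000 64256 3 :=
  block_of_check (k := 8) rfl (by decide +kernel)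

theorem b251 : Block F al 64256 64512 1 :=
  block_of_check (k := 8) rfl (by decide +kernel)

theorem b252 : Block F al 64512 64768 14 :=
  block_of_check (k := 8) rfl (by decide +kernel)

theorem b253 : Block F al 64768 65024 9 :=
  block_of_check (k := 8) rfl (by decide +kernel)

theorem b254 : Block F al 65024 65280 0 :=
  block_of_check (k := 8) rfl (by decide +kernel)

theorem b255 : Block F al 65280 65536 25 :=
  block_of_check (k := 8) rfl (by decide +kernel)

theorem b256 : Block F al 65536 65792 19 :=
  block_of_check (k := 8) rfl (by decide +kernel)

theorem b257 : Block F al 65792 66048 17 :=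
  block_of_check (k := 8) rfl (by decide +kernel)

theorem b258 : Block F al 66048 66304 24 :=
  block_of_check (k := 8) rfl (by decide +kernel)

theorem b259 : Block F al 66304 66560 6 :=
  block_of_check (k := 8) rfl (by decide +kernel)

theorem b260 : Block F al 66560 66816 0 :=
  block_of_check (k := 8) rfl (by decide +kernel)

theorem b261 : Block F al 66816 67072 0 :=
  block_of_check (k := 8) rfl (by decide +kernel)

theorem b262 : Block F al 67072 67328 6 :=
  block_of_check (k := 8) rfl (by decide +kernel)

theorem b263 : Block F al 67328 67584 0 :=
  block_of_check (k := 8) rfl (by decide +kernel)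

theorem b264 : Block F al 67584 67840 0 :=
  block_of_check (k := 8) rfl (by decide +kernel)

theorem b265 : Block F al 67840 68096 35 :=
  block_of_check (k := 8) rfl (by decide +kernel)

theorem b266 : Block F al 68096 68352 2 :=
  block_of_check (k := 8) rfl (by decide +kernel)

theorem b267 : Block F al 68352 68608 7 :=
  block_of_check (k := 8) rfl (by decide +kernel)

theorem b268 : Block F al 68608 68864 22 :=
  block_of_check (k := 8) rfl (by decide +kernel)

theorem b269 : Block F al 68864 69120 0 :=
  block_of_check (k := 8) rfl (by decide +kernel)

theorem b270 : Block F al 69120 69376 0 :=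
  block_of_check (k := 8) rfl (by decide +kernel)

theorem b271 : Block F al 69376 69632 0 :=
  block_of_check (k := 8) rfl (by decide +kernel)

theorem b272 : Block F al 69632 69888 0 :=
  block_of_check (k := 8) rfl (by decide +kernel)

theorem b273 : Block F al 69888 70144 0 :=
  block_of_check (k := 8) rfl (by decide +kernel)

theorem b274 : Block F al 70144 70400 6 :=
  block_of_check (k := 8) rfl (by decide +kernel)

theorem b275 : Block F al 70400 70656 7 :=
  block_of_check (k := 8) rfl (by decide +kernel)

theorem b276 : Block F al 70656 70912 4 :=
  block_of_check (k := 8) rfl (by decide +kernel)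

theorem b277 : Block F al 70912 71168 6 :=
  block_of_check (k := 8) rfl (by decide +kernel)

theorem b278 : Block F al 71168 71424 0 :=
  block_of_check (k := 8) rfl (by decide +kernel)

theorem b279 : Block F al 71424 71680 2 :=
  block_of_check (k := 8) rfl (by decide +kernel)

theorem b280 : Block F al 71680 71936 1 :=
  block_of_check (k := 8) rfl (by decide +kernel)

theorem b281 : Block F al 71936 72192 0 :=
  block_of_check (k := 8) rfl (by decide +kernel)

theorem b282 : Block F al 72192 72448 0 :=
  block_of_check (k := 8) rfl (by decide +kernel)

theorem b283 : Block F al 72448 72704 0 :=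
  block_of_check (k := 8) rfl (by decide +kernel)

theorem b284 : Block F al 72704 72960 0 :=
  block_of_check (k := 8) rfl (by decide +kernel)

theorem b285 : Block F al 72960 73216 0 :=
  block_of_check (k := 8) rfl (by decide +kernel)

theorem b286 : Block F al 73216 73472 0 :=
  block_of_check (k := 8) rfl (by decide +kernel)

end Cfsg.Agent.TcData.SY224c.I28431
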