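import Mathlib
import Cfsg.Agent.TcData.SY224c.I28431.Tab

set_option autoImplicit false
set_option Elab.async false
set_option maxRecDepth 100000
set_option linter.all false

namespace Cfsg.Agent.TcData.SY224c.I28431

open Cfsg.Spor Cfsg.Agent.Lib.TcFacts Cfsg.Agent.Lib.TcBits Cfsg.Agent.Lib.TcPres Cfsg.Agent.Lib.SchurDefs.Y224c Cfsg.Agent.TcData.SY224c

theorem b287 : Block F al 73472 73728 0 :=
  block_of_check (k := 8) rfl (by decide +kernel)

theorem b288 : Block F al 73728 73984 0 :=
  block_of_check (k := 8) rfl (by decide +kernel)

theorem b289 : Block F al 73984 74240 0 :=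
  block_of_check (k := 8) rfl (by decide +kernel)

theorem b290 : Block F al 74240 74496 0 :=
  block_of_check (k := 8) rfl (by decide +kernel)

theorem b291 : Block F al 74496 74752 0 :=
  block_of_check (k := 8) rfl (by decide +kernel)

theorem b292 : Block F al 74752 75008 0 :=
  block_of_check (k := 8) rfl (by decide +kernel)

theorem b293 : Block F al 75008 75264 0 :=
  block_of_check (k := 8) rfl (by decide +kernel)

theorem b294 : Block F al 75264 75520 0 :=
  block_of_check (k := 8) rfl (by decide +kernel)

theorem b295 : Block F al 75520 75776 0 :=
  block_of_check (k := 8) rfl (by decide +kernel)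

theorem b296 : Block F al 75776 76032 0 :=
  block_of_check (k := 8) rfl (by decide +kernel)

theorem b297 : Block F al 76032 76288 18 :=
  block_of_check (k := 8) rfl (by decide +kernel)

theorem b298 : Block F al 76288 76544 0 :=
  block_of_check (k := 8) rfl (by decide +kernel)

theorem b299 : Block F al 76544 76800 32 :=
  block_of_check (k := 8) rfl (by decide +kernel)

theorem b300 : Block F al 76800 77056 14 :=
  block_of_check (k := 8) rfl (by decide +kernel)

theorem b301 : Block F al 77056 77312 4 :=
  block_of_check (k := 8) rfl (by decide +kernel)

theorem b302 : Block F al 77312 77568 126 :=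
  block_of_check (k := 8) rfl (by decide +kernel)

theorem b303 : Block F al 77568 77824 4 :=
  block_of_check (k := 8) rfl (by decide +kernel)

theorem b304 : Block F al 77824 78080 151 :=
  block_of_check (k := 8) rfl (by decide +kernel)

theorem b305 : Block F al 78080 78336 62 :=
  block_of_check (k := 8) rfl (by decide +kernel)

theorem b306 : Block F al 78336 78592 169 :=
  block_of_check (k := 8) rfl (by decide +kernel)

theorem b307 : Block F al 78592 78848 2 :=
  block_of_check (k := 8) rfl (by decide +kernel)

theorem b308 : Block F al 78848 79104 80 :=
  block_of_check (k := 8) rfl (by decide +kernel)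

theorem b309 : Block F al 79104 79360 91 :=
  block_of_check (k := 8) rfl (by decide +kernel)

theorem b310 : Block F al 79360 79616 0 :=
  block_of_check (k := 8) rfl (by decide +kernel)

theorem b311 : Block F al 79616 79872 21 :=
  block_of_check (k := 8) rfl (by decide +kernel)

theorem b312 : Block F al 79872 80128 25 :=
  block_of_check (k := 8) rfl (by decide +kernel)

theorem b313 : Block F al 80128 80384 42 :=
  block_of_check (k := 8) rfl (by decide +kernel)

theorem b314 : Block F al 80384 80640 40 :=
  block_of_check (k := 8) rfl (by decide +kernel)

theorem b315 : Block F al 80640 80896 162 :=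
  block_of_check (k := 8) rfl (by decide +kernel)

theorem b316 : Block F al 80896 81152 34 :=
  block_of_check (k := 8) rfl (by decide +kernel)

theorem b317 : Block F al 81152 81408 96 :=
  block_of_check (k := 8) rfl (by decide +kernel)

theorem b318 : Block F al 81408 81664 128 :=
  block_of_check (k := 8) rfl (by decide +kernel)

theorem b319 : Block F al 81664 81920 149 :=
  block_of_check (k := 8) rfl (by decide +kernel)

theorem b320 : Block F al 81920 82176 34 :=
  block_of_check (k := 8) rfl (by decide +kernel)

theorem b321 : Block F al 82176 82432 103 :=
  block_of_check (k := 8) rfl (by decide +kernel)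

theorem b322 : Block F al 82432 82688 13 :=
  block_of_check (k := 8) rfl (by decide +kernel)

theorem b323 : Block F al 82688 82944 19 :=
  block_of_check (k := 8) rfl (by decide +kernel)

theorem b324 : Block F al 82944 83200 111 :=
  block_of_check (k := 8) rfl (by decide +kernel)

theorem b325 : Block F al 83200 83456 80 :=
  block_of_check (k := 8) rfl (by decide +kernel)

theorem b326 : Block F al 83456 83712 2 :=
  block_of_check (k := 8) rfl (by decide +kernel)

theorem b327 : Block F al 83712 83968 0 :=
  block_of_check (k := 8) rfl (by decide +kernel)

theorem b328 : Block F al 83968 84224 2 :=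
  block_of_check (k := 8) rfl (by decide +kernel)

theorem b329 : Block F al 84224 84480 3 :=
  block_of_check (k := 8) rfl (by decide +kernel)

theorem b330 : Block F al 84480 84736 1 :=
  block_of_check (k := 8) rfl (by decide +kernel)

theorem b331 : Block F al 84736 84992 3 :=
  block_of_check (k := 8) rfl (by decide +kernel)

theorem b332 : Block F al 84992 85248 18 :=
  block_of_check (k := 8) rfl (by decide +kernel)

theorem b333 : Block F al 85248 85504 7 :=
  block_of_check (k := 8) rfl (by decide +kernel)

theorem b334 : Block F al 85504 85760 22 :=
  block_of_check (k := 8) rfl (by decide +kernel)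

theorem b335 : Block F al 85760 86016 9 :=
  block_of_check (k := 8) rfl (by decide +kernel)

theorem b336 : Block F al 86016 86272 0 :=
  block_of_check (k := 8) rfl (by decide +kernel)

theorem b337 : Block F al 86272 86528 0 :=
  block_of_check (k := 8) rfl (by decide +kernel)

theorem b338 : Block F al 86528 86784 0 :=
  block_of_check (k := 8) rfl (by decide +kernel)

theorem b339 : Block F al 86784 87040 7 :=
  block_of_check (k := 8) rfl (by decide +kernel)

theorem b340 : Block F al 87040 87296 13 :=
  block_of_check (k := 8) rfl (by decide +kernel)

theorem b341 : Block F al 87296 87552 1 :=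
  block_of_check (k := 8) rfl (by decide +kernel)

theorem b342 : Block F al 87552 87808 3 :=
  block_of_check (k := 8) rfl (by decide +kernel)

theorem b343 : Block F al 87808 88064 5 :=
  block_of_check (k := 8) rfl (by decide +kernel)

theorem b344 : Block F al 88064 88320 0 :=
  block_of_check (k := 8) rfl (by decide +kernel)

theorem b345 : Block F al 88320 88576 0 :=
  block_of_check (k := 8) rfl (by decide +kernel)

theorem b346 : Block F al 88576 88832 0 :=
  block_of_check (k := 8) rfl (by decide +kernel)

theorem b347 : Block F al 88832 89088 0 :=
  block_of_check (k := 8) rfl (by decide +kernel)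

end Cfsg.Agent.TcData.SY224c.I28431
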