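import Mathlib
import Cfsg.Agent.TcData.SY224c.I28431.Tab

set_option autoImplicit false
set_option Elab.async false
set_option maxRecDepth 100000
set_option linter.all false

namespace Cfsg.Agent.TcData.SY224c.I28431

open Cfsg.Spor Cfsg.Agent.Lib.TcFacts Cfsg.Agent.Lib.TcBits Cfsg.Agent.Lib.TcPres Cfsg.Agent.Lib.SchurDefs.Y224c Cfsg.Agent.TcData.SY224c

theorem b348 : Block F al 89088 89344 1 :=
  block_of_check (k := 8) rfl (by decide +kernel)

theorem b349 : Block F al 89344 89600 2 :=
  block_of_check (k := 8) rfl (by decide +kernel)

theorem b350 : Block F al 89600 89856 0 :=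
  block_of_check (k := 8) rfl (by decide +kernel)

theorem b351 : Block F al 89856 90112 0 :=
  block_of_check (k := 8) rfl (by decide +kernel)

theorem b352 : Block F al 90112 90368 0 :=
  block_of_check (k := 8) rfl (by decide +kernel)

theorem b353 : Block F al 90368 90624 0 :=
  block_of_check (k := 8) rfl (by decide +kernel)

theorem b354 : Block F al 90624 90880 0 :=
  block_of_check (k := 8) rfl (by decide +kernel)

theorem b355 : Block F al 90880 91136 0 :=
  block_of_check (k := 8) rfl (by decide +kernel)

theorem b356 : Block F al 91136 91392 0 :=
  block_of_check (k := 8) rfl (by decide +kernel)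

theorem b357 : Block F al 91392 91648 0 :=
  block_of_check (k := 8) rfl (by decide +kernel)

theorem b358 : Block F al 91648 91904 0 :=
  block_of_check (k := 8) rfl (by decide +kernel)

theorem b359 : Block F al 91904 92160 0 :=
  block_of_check (k := 8) rfl (by decide +kernel)

theorem b360 : Block F al 92160 92416 33 :=
  block_of_check (k := 8) rfl (by decide +kernel)

theorem b361 : Block F al 92416 92672 74 :=
  block_of_check (k := 8) rfl (by decide +kernel)

theorem b362 : Block F al 92672 92928 104 :=
  block_of_check (k := 8) rfl (by decide +kernel)

theorem b363 : Block F al 92928 93184 150 :=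
  block_of_check (k := 8) rfl (by decide +kernel)

theorem b364 : Block F al 93184 93440 126 :=
  block_of_check (k := 8) rfl (by decide +kernel)

theorem b365 : Block F al 93440 93696 109 :=
  block_of_check (k := 8) rfl (by decide +kernel)

theorem b366 : Block F al 93696 93952 56 :=
  block_of_check (k := 8) rfl (by decide +kernel)

theorem b367 : Block F al 93952 94208 115 :=
  block_of_check (k := 8) rfl (by decide +kernel)

theorem b368 : Block F al 94208 94464 6 :=
  block_of_check (k := 8) rfl (by decide +kernel)

theorem b369 : Block F al 94464 94720 45 :=
  block_of_check (k := 8) rfl (by decide +kernel)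

theorem b370 : Block F al 94720 94976 50 :=
  block_of_check (k := 8) rfl (by decide +kernel)

theorem b371 : Block F al 94976 95232 147 :=
  block_of_check (k := 8) rfl (by decide +kernel)

theorem b372 : Block F al 95232 95488 53 :=
  block_of_check (k := 8) rfl (by decide +kernel)

theorem b373 : Block F al 95488 95744 148 :=
  block_of_check (k := 8) rfl (by decide +kernel)

theorem b374 : Block F al 95744 96000 131 :=
  block_of_check (k := 8) rfl (by decide +kernel)

theorem b375 : Block F al 96000 96256 87 :=
  block_of_check (k := 8) rfl (by decide +kernel)

theorem b376 : Block F al 96256 96512 98 :=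
  block_of_check (k := 8) rfl (by decide +kernel)

theorem b377 : Block F al 96512 96768 20 :=
  block_of_check (k := 8) rfl (by decide +kernel)

theorem b378 : Block F al 96768 97024 49 :=
  block_of_check (k := 8) rfl (by decide +kernel)

theorem b379 : Block F al 97024 97280 91 :=
  block_of_check (k := 8) rfl (by decide +kernel)

theorem b380 : Block F al 97280 97536 45 :=
  block_of_check (k := 8) rfl (by decide +kernel)

theorem b381 : Block F al 97536 97792 2 :=
  block_of_check (k := 8) rfl (by decide +kernel)

theorem b382 : Block F al 97792 98048 39 :=
  block_of_check (k := 8) rfl (by decide +kernel)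

theorem b383 : Block F al 98048 98304 5 :=
  block_of_check (k := 8) rfl (by decide +kernel)

theorem b384 : Block F al 98304 98560 31 :=
  block_of_check (k := 8) rfl (by decide +kernel)

theorem b385 : Block F al 98560 98816 256 :=
  block_of_check (k := 8) rfl (by decide +kernel)

theorem b386 : Block F al 98816 99072 256 :=
  block_of_check (k := 8) rfl (by decide +kernel)

theorem b387 : Block F al 99072 99328 256 :=
  block_of_check (k := 8) rfl (by decide +kernel)

theorem b388 : Block F al 99328 99584 256 :=
  block_of_check (k := 8) rfl (by decide +kernel)

theorem b389 : Block F al 99584 99840 256 :=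
  block_of_check (k := 8) rfl (by decide +kernel)

theorem b390 : Block F al 99840 100096 256 :=
  block_of_check (k := 8) rfl (by decide +kernel)

theorem b391 : Block F al 100096 100352 256 :=
  block_of_check (k := 8) rfl (by decide +kernel)

theorem b392 : Block F al 100352 100608 256 :=
  block_of_check (k := 8) rfl (by decide +kernel)

end Cfsg.Agent.TcData.SY224c.I28431
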