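import Mathlib
import Cfsg.Agent.TcData.SY224c.I28431.Chk0
import Cfsg.Agent.TcData.SY224c.I28431.Chk1
import Cfsg.Agent.TcData.SY224c.I28431.Chk2
import Cfsg.Agent.TcData.SY224c.I28431.Chk3
import Cfsg.Agent.TcData.SY224c.I28431.Chk4
import Cfsg.Agent.TcData.SY224c.I28431.Chk5
import Cfsg.Agent.TcData.SY224c.I28431.Chk6
import Cfsg.Agent.TcData.SY224c.I28431.Chk7
import Cfsg.Agent.TcData.SY224c.I28431.Chk8
import Cfsg.Agent.TcData.SY224c.I28431.Chk9

set_option autoImplicit false
set_option Elab.async false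
set_option maxRecDepth 100000
set_option linter.all false

namespace Cfsg.Agent.TcData.SY224c.I28431

open Cfsg.Spor Cfsg.Agent.Lib.TcFacts Cfsg.Agent.Lib.TcBits Cfsg.Agent.Lib.TcPres Cfsg.Agent.Lib.SchurDefs.Y224c Cfsg.Agent.TcData.SY224c

theorem c0 : Block F al 0 256 255 := b0

theorem c1 : Block F al 0 512 508 :=
  block_comb c0 b1 (Nat.zero_le _) (Nat.le_of_ble_eq_true rfl) rfl

theorem c2 : Block F al 0 768 730 :=
  block_comb c1 b2 (Nat.zero_le _) (Nat.le_of_ble_eq_true rfl) rfl

theorem c3 : Block F al 0 1024 933 :=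
  block_comb c2 b3 (Nat.zero_le _) (Nat.le_of_ble_eq_true rfl) rfl

theorem c4 : Block F al 0 1280 1111 :=
  block_comb c3 b4 (Nat.zero_le _) (Nat.le_of_ble_eq_true rfl) rfl

theorem c5 : Block F al 0 1536 1325 :=
  block_comb c4 b5 (Nat.zero_le _) (Nat.le_of_ble_eq_true rfl) rfl

theorem c6 : Block F al 0 1792 1468 :=
  block_comb c5 b6 (Nat.zero_le _) (Nat.le_of_ble_eq_true rfl) rfl

theorem c7 : Block F al 0 2048 1667 :=
  block_comb c6 b7 (Nat.zero_le _) (Nat.le_of_ble_eq_true rfl) rfl

theorem c8 : Block F al 0 2304 1818 :=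
  block_comb c7 b8 (Nat.zero_le _) (Nat.le_of_ble_eq_true rfl) rfl

theorem c9 : Block F al 0 2560 1981 :=
  block_comb c8 b9 (Nat.zero_le _) (Nat.le_of_ble_eq_true rfl) rfl

theorem c10 : Block F al 0 2816 2154 :=
  block_comb c9 b10 (Nat.zero_le _) (Nat.le_of_ble_eq_true rfl) rfl

theorem c11 : Block F al 0 3072 2319 :=
  block_comb c10 b11 (Nat.zero_le _) (Nat.le_of_ble_eq_true rfl) rfl

theorem c12 : Block F al 0 3328 2387 :=
  block_comb c11 b12 (Nat.zero_le _) (Nat.le_of_ble_eq_true rfl) rfl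

theorem c13 : Block F al 0 3584 2578 :=
  block_comb c12 b13 (Nat.zero_le _) (Nat.le_of_ble_eq_true rfl) rfl

theorem c14 : Block F al 0 3840 2758 :=
  block_comb c13 b14 (Nat.zero_le _) (Nat.le_of_ble_eq_true rfl) rfl

theorem c15 : Block F al 0 4096 2891 :=
  block_comb c14 b15 (Nat.zero_le _) (Nat.le_of_ble_eq_true rfl) rfl

theorem c16 : Block F al 0 4352 2952 :=
  block_comb c15 b16 (Nat.zero_le _) (Nat.le_of_ble_eq_true rfl) rfl

theorem c17 : Block F al 0 4608 3028 :=
  block_comb c16 b17 (Nat.zero_le _) (Nat.le_of_ble_eq_true rfl) rfl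

theorem c18 : Block F al 0 4864 3212 :=
  block_comb c17 b18 (Nat.zero_le _) (Nat.le_of_ble_eq_true rfl) rfl

theorem c19 : Block F al 0 5120 3405 :=
  block_comb c18 b19 (Nat.zero_le _) (Nat.le_of_ble_eq_true rfl) rfl

theorem c20 : Block F al 0 5376 3519 :=
  block_comb c19 b20 (Nat.zero_le _) (Nat.le_of_ble_eq_true rfl) rfl

theorem c21 : Block F al 0 5632 3641 :=
  block_comb c20 b21 (Nat.zero_le _) (Nat.le_of_ble_eq_true rfl) rfl

theorem c22 : Block F al 0 5888 3702 :=
  block_comb c21 b22 (Nat.zero_le _) (Nat.le_of_ble_eq_true rfl) rfl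

theorem c23 : Block F al 0 6144 3718 :=
  block_comb c22 b23 (Nat.zero_le _) (Nat.le_of_ble_eq_true rfl) rfl

theorem c24 : Block F al 0 6400 3808 :=
  block_comb c23 b24 (Nat.zero_le _) (Nat.le_of_ble_eq_true rfl) rfl

theorem c25 : Block F al 0 6656 3983 :=
  block_comb c24 b25 (Nat.zero_le _) (Nat.le_of_ble_eq_true rfl) rfl

theorem c26 : Block F al 0 6912 4151 :=
  block_comb c25 b26 (Nat.zero_le _) (Nat.le_of_ble_eq_true rfl) rfl

theorem c27 : Block F al 0 7168 4338 :=
  block_comb c26 b27 (Nat.zero_le _) (Nat.le_of_ble_eq_true rfl) rfl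

theorem c28 : Block F al 0 7424 4402 :=
  block_comb c27 b28 (Nat.zero_le _) (Nat.le_of_ble_eq_true rfl) rfl

theorem c29 : Block F al 0 7680 4517 :=
  block_comb c28 b29 (Nat.zero_le _) (Nat.le_of_ble_eq_true rfl) rfl

theorem c30 : Block F al 0 7936 4565 :=
  block_comb c29 b30 (Nat.zero_le _) (Nat.le_of_ble_eq_true rfl) rfl

theorem c31 : Block F al 0 8192 4600 :=
  block_comb c30 b31 (Nat.zero_le _) (Nat.le_of_ble_eq_true rfl) rfl

theorem c32 : Block F al 0 8448 4615 :=
  block_comb c31 b32 (Nat.zero_le _) (Nat.le_of_ble_eq_true rfl) rfl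

theorem c33 : Block F al 0 8704 4670 :=
  block_comb c32 b33 (Nat.zero_le _) (Nat.le_of_ble_eq_true rfl) rfl

theorem c34 : Block F al 0 8960 4790 :=
  block_comb c33 b34 (Nat.zero_le _) (Nat.le_of_ble_eq_true rfl) rfl

theorem c35 : Block F al 0 9216 4999 :=
  block_comb c34 b35 (Nat.zero_le _) (Nat.le_of_ble_eq_true rfl) rfl

theorem c36 : Block F al 0 9472 5141 :=
  block_comb c35 b36 (Nat.zero_le _) (Nat.le_of_ble_eq_true rfl) rfl

theorem c37 : Block F al 0 9728 5278 :=
  block_comb c36 b37 (Nat.zero_le _) (Nat.le_of_ble_eq_true rfl) rfl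

theorem c38 : Block F al 0 9984 5390 :=
  block_comb c37 b38 (Nat.zero_le _) (Nat.le_of_ble_eq_true rfl) rfl

theorem c39 : Block F al 0 10240 5456 :=
  block_comb c38 b39 (Nat.zero_le _) (Nat.le_of_ble_eq_true rfl) rfl

theorem c40 : Block F al 0 10496 5562 :=
  block_comb c39 b40 (Nat.zero_le _) (Nat.le_of_ble_eq_true rfl) rfl

theorem c41 : Block F al 0 10752 5611 :=
  block_comb c40 b41 (Nat.zero_le _) (Nat.le_of_ble_eq_true rfl) rfl

theorem c42 : Block F al 0 11008 5672 :=
  block_comb c41 b42 (Nat.zero_le _) (Nat.le_of_ble_eq_true rfl) rfl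

theorem c43 : Block F al 0 11264 5672 :=
  block_comb c42 b43 (Nat.zero_le _) (Nat.le_of_ble_eq_true rfl) rfl

theorem c44 : Block F al 0 11520 5675 :=
  block_comb c43 b44 (Nat.zero_le _) (Nat.le_of_ble_eq_true rfl) rfl

theorem c45 : Block F al 0 11776 5709 :=
  block_comb c44 b45 (Nat.zero_le _) (Nat.le_of_ble_eq_true rfl) rfl

theorem c46 : Block F al 0 12032 5784 :=
  block_comb c45 b46 (Nat.zero_le _) (Nat.le_of_ble_eq_true rfl) rfl

theorem c47 : Block F al 0 12288 5892 :=
  block_comb c46 b47 (Nat.zero_le _) (Nat.le_of_ble_eq_true rfl) rfl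

theorem c48 : Block F al 0 12544 6042 :=
  block_comb c47 b48 (Nat.zero_le _) (Nat.le_of_ble_eq_true rfl) rfl

theorem c49 : Block F al 0 12800 6259 :=
  block_comb c48 b49 (Nat.zero_le _) (Nat.le_of_ble_eq_true rfl) rfl

theorem c50 : Block F al 0 13056 6369 :=
  block_comb c49 b50 (Nat.zero_le _) (Nat.le_of_ble_eq_true rfl) rfl

theorem c51 : Block F al 0 13312 6463 :=
  block_comb c50 b51 (Nat.zero_le _) (Nat.le_of_ble_eq_true rfl) rfl

theorem c52 : Block F al 0 13568 6610 :=
  block_comb c51 b52 (Nat.zero_le _) (Nat.le_of_ble_eq_true rfl) rfl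

theorem c53 : Block F al 0 13824 6649 :=
  block_comb c52 b53 (Nat.zero_le _) (Nat.le_of_ble_eq_true rfl) rfl

theorem c54 : Block F al 0 14080 6719 :=
  block_comb c53 b54 (Nat.zero_le _) (Nat.le_of_ble_eq_true rfl) rfl

theorem c55 : Block F al 0 14336 6757 :=
  block_comb c54 b55 (Nat.zero_le _) (Nat.le_of_ble_eq_true rfl) rfl

theorem c56 : Block F al 0 14592 6859 :=
  block_comb c55 b56 (Nat.zero_le _) (Nat.le_of_ble_eq_true rfl) rfl

theorem c57 : Block F al 0 14848 6886 :=
  block_comb c56 b57 (Nat.zero_le _) (Nat.le_of_ble_eq_true rfl) rfl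

theorem c58 : Block F al 0 15104 6918 :=
  block_comb c57 b58 (Nat.zero_le _) (Nat.le_of_ble_eq_true rfl) rfl

theorem c59 : Block F al 0 15360 6935 :=
  block_comb c58 b59 (Nat.zero_le _) (Nat.le_of_ble_eq_true rfl) rfl

theorem c60 : Block F al 0 15616 6935 :=
  block_comb c59 b60 (Nat.zero_le _) (Nat.le_of_ble_eq_true rfl) rfl

theorem c61 : Block F al 0 15872 6941 :=
  block_comb c60 b61 (Nat.zero_le _) (Nat.le_of_ble_eq_true rfl) rfl

theorem c62 : Block F al 0 16128 6965 :=
  block_comb c61 b62 (Nat.zero_le _) (Nat.le_of_ble_eq_true rfl) rfl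

theorem c63 : Block F al 0 16384 7018 :=
  block_comb c62 b63 (Nat.zero_le _) (Nat.le_of_ble_eq_true rfl) rfl

theorem c64 : Block F al 0 16640 7120 :=
  block_comb c63 b64 (Nat.zero_le _) (Nat.le_of_ble_eq_true rfl) rfl

theorem c65 : Block F al 0 16896 7223 :=
  block_comb c64 b65 (Nat.zero_le _) (Nat.le_of_ble_eq_true rfl) rfl

theorem c66 : Block F al 0 17152 7318 :=
  block_comb c65 b66 (Nat.zero_le _) (Nat.le_of_ble_eq_true rfl) rfl

theorem c67 : Block F al 0 17408 7541 :=
  block_comb c66 b67 (Nat.zero_le _) (Nat.le_of_ble_eq_true rfl) rfl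

theorem c68 : Block F al 0 17664 7705 :=
  block_comb c67 b68 (Nat.zero_le _) (Nat.le_of_ble_eq_true rfl) rfl

theorem c69 : Block F al 0 17920 7830 :=
  block_comb c68 b69 (Nat.zero_le _) (Nat.le_of_ble_eq_true rfl) rfl

theorem c70 : Block F al 0 18176 7899 :=
  block_comb c69 b70 (Nat.zero_le _) (Nat.le_of_ble_eq_true rfl) rfl

theorem c71 : Block F al 0 18432 7971 :=
  block_comb c70 b71 (Nat.zero_le _) (Nat.le_of_ble_eq_true rfl) rfl

theorem c72 : Block F al 0 18688 8097 :=
  block_comb c71 b72 (Nat.zero_le _) (Nat.le_of_ble_eq_true rfl) rfl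

theorem c73 : Block F al 0 18944 8122 :=
  block_comb c72 b73 (Nat.zero_le _) (Nat.le_of_ble_eq_true rfl) rfl

theorem c74 : Block F al 0 19200 8165 :=
  block_comb c73 b74 (Nat.zero_le _) (Nat.le_of_ble_eq_true rfl) rfl

theorem c75 : Block F al 0 19456 8210 :=
  block_comb c74 b75 (Nat.zero_le _) (Nat.le_of_ble_eq_true rfl) rfl

theorem c76 : Block F al 0 19712 8229 :=
  block_comb c75 b76 (Nat.zero_le _) (Nat.le_of_ble_eq_true rfl) rfl

theorem c77 : Block F al 0 19968 8346 :=
  block_comb c76 b77 (Nat.zero_le _) (Nat.le_of_ble_eq_true rfl) rfl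

theorem c78 : Block F al 0 20224 8377 :=
  block_comb c77 b78 (Nat.zero_le _) (Nat.le_of_ble_eq_true rfl) rfl

theorem c79 : Block F al 0 20480 8377 :=
  block_comb c78 b79 (Nat.zero_le _) (Nat.le_of_ble_eq_true rfl) rfl

theorem c80 : Block F al 0 20736 8402 :=
  block_comb c79 b80 (Nat.zero_le _) (Nat.le_of_ble_eq_true rfl) rfl

theorem c81 : Block F al 0 20992 8416 :=
  block_comb c80 b81 (Nat.zero_le _) (Nat.le_of_ble_eq_true rfl) rfl

theorem c82 : Block F al 0 21248 8416 :=
  block_comb c81 b82 (Nat.zero_le _) (Nat.le_of_ble_eq_true rfl) rfl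

theorem c83 : Block F al 0 21504 8416 :=
  block_comb c82 b83 (Nat.zero_le _) (Nat.le_of_ble_eq_true rfl) rfl

theorem c84 : Block F al 0 21760 8417 :=
  block_comb c83 b84 (Nat.zero_le _) (Nat.le_of_ble_eq_true rfl) rfl

theorem c85 : Block F al 0 22016 8427 :=
  block_comb c84 b85 (Nat.zero_le _) (Nat.le_of_ble_eq_true rfl) rfl

theorem c86 : Block F al 0 22272 8481 :=
  block_comb c85 b86 (Nat.zero_le _) (Nat.le_of_ble_eq_true rfl) rfl

theorem c87 : Block F al 0 22528 8510 :=
  block_comb c86 b87 (Nat.zero_le _) (Nat.le_of_ble_eq_true rfl) rfl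

theorem c88 : Block F al 0 22784 8600 :=
  block_comb c87 b88 (Nat.zero_le _) (Nat.le_of_ble_eq_true rfl) rfl

theorem c89 : Block F al 0 23040 8713 :=
  block_comb c88 b89 (Nat.zero_le _) (Nat.le_of_ble_eq_true rfl) rfl

theorem c90 : Block F al 0 23296 8794 :=
  block_comb c89 b90 (Nat.zero_le _) (Nat.le_of_ble_eq_true rfl) rfl

theorem c91 : Block F al 0 23552 8876 :=
  block_comb c90 b91 (Nat.zero_le _) (Nat.le_of_ble_eq_true rfl) rfl

theorem c92 : Block F al 0 23808 9044 :=
  block_comb c91 b92 (Nat.zero_le _) (Nat.le_of_ble_eq_true rfl) rfl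

theorem c93 : Block F al 0 24064 9282 :=
  block_comb c92 b93 (Nat.zero_le _) (Nat.le_of_ble_eq_true rfl) rfl

theorem c94 : Block F al 0 24320 9397 :=
  block_comb c93 b94 (Nat.zero_le _) (Nat.le_of_ble_eq_true rfl) rfl

theorem c95 : Block F al 0 24576 9542 :=
  block_comb c94 b95 (Nat.zero_le _) (Nat.le_of_ble_eq_true rfl) rfl

theorem c96 : Block F al 0 24832 9567 :=
  block_comb c95 b96 (Nat.zero_le _) (Nat.le_of_ble_eq_true rfl) rfl

theorem c97 : Block F al 0 25088 9627 :=
  block_comb c96 b97 (Nat.zero_le _) (Nat.le_of_ble_eq_true rfl) rfl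

theorem c98 : Block F al 0 25344 9678 :=
  block_comb c97 b98 (Nat.zero_le _) (Nat.le_of_ble_eq_true rfl) rfl

theorem c99 : Block F al 0 25600 9769 :=
  block_comb c98 b99 (Nat.zero_le _) (Nat.le_of_ble_eq_true rfl) rfl

theorem c100 : Block F al 0 25856 9812 :=
  block_comb c99 b100 (Nat.zero_le _) (Nat.le_of_ble_eq_true rfl) rfl

theorem c101 : Block F al 0 26112 9831 :=
  block_comb c100 b101 (Nat.zero_le _) (Nat.le_of_ble_eq_true rfl) rfl

theorem c102 : Block F al 0 26368 9878 :=
  block_comb c101 b102 (Nat.zero_le _) (Nat.le_of_ble_eq_true rfl) rfl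

theorem c103 : Block F al 0 26624 9926 :=
  block_comb c102 b103 (Nat.zero_le _) (Nat.le_of_ble_eq_true rfl) rfl

theorem c104 : Block F al 0 26880 9938 :=
  block_comb c103 b104 (Nat.zero_le _) (Nat.le_of_ble_eq_true rfl) rfl

theorem c105 : Block F al 0 27136 9948 :=
  block_comb c104 b105 (Nat.zero_le _) (Nat.le_of_ble_eq_true rfl) rfl

theorem c106 : Block F al 0 27392 10030 :=
  block_comb c105 b106 (Nat.zero_le _) (Nat.le_of_ble_eq_true rfl) rfl

theorem c107 : Block F al 0 27648 10067 :=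
  block_comb c106 b107 (Nat.zero_le _) (Nat.le_of_ble_eq_true rfl) rfl

theorem c108 : Block F al 0 27904 10094 :=
  block_comb c107 b108 (Nat.zero_le _) (Nat.le_of_ble_eq_true rfl) rfl

theorem c109 : Block F al 0 28160 10094 :=
  block_comb c108 b109 (Nat.zero_le _) (Nat.le_of_ble_eq_true rfl) rfl

theorem c110 : Block F al 0 28416 10101 :=
  block_comb c109 b110 (Nat.zero_le _) (Nat.le_of_ble_eq_true rfl) rfl

theorem c111 : Block F al 0 28672 10112 :=
  block_comb c110 b111 (Nat.zero_le _) (Nat.le_of_ble_eq_true rfl) rfl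

theorem c112 : Block F al 0 28928 10112 :=
  block_comb c111 b112 (Nat.zero_le _) (Nat.le_of_ble_eq_true rfl) rfl

theorem c113 : Block F al 0 29184 10112 :=
  block_comb c112 b113 (Nat.zero_le _) (Nat.le_of_ble_eq_true rfl) rfl

theorem c114 : Block F al 0 29440 10112 :=
  block_comb c113 b114 (Nat.zero_le _) (Nat.le_of_ble_eq_true rfl) rfl

theorem c115 : Block F al 0 29696 10112 :=
  block_comb c114 b115 (Nat.zero_le _) (Nat.le_of_ble_eq_true rfl) rfl

theorem c116 : Block F al 0 29952 10114 :=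
  block_comb c115 b116 (Nat.zero_le _) (Nat.le_of_ble_eq_true rfl) rfl

theorem c117 : Block F al 0 30208 10121 :=
  block_comb c116 b117 (Nat.zero_le _) (Nat.le_of_ble_eq_true rfl) rfl

theorem c118 : Block F al 0 30464 10153 :=
  block_comb c117 b118 (Nat.zero_le _) (Nat.le_of_ble_eq_true rfl) rfl

theorem c119 : Block F al 0 30720 10188 :=
  block_comb c118 b119 (Nat.zero_le _) (Nat.le_of_ble_eq_true rfl) rfl

theorem c120 : Block F al 0 30976 10216 :=
  block_comb c119 b120 (Nat.zero_le _) (Nat.le_of_ble_eq_true rfl) rfl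

theorem c121 : Block F al 0 31232 10288 :=
  block_comb c120 b121 (Nat.zero_le _) (Nat.le_of_ble_eq_true rfl) rfl

theorem c122 : Block F al 0 31488 10394 :=
  block_comb c121 b122 (Nat.zero_le _) (Nat.le_of_ble_eq_true rfl) rfl

theorem c123 : Block F al 0 31744 10501 :=
  block_comb c122 b123 (Nat.zero_le _) (Nat.le_of_ble_eq_true rfl) rfl

theorem c124 : Block F al 0 32000 10599 :=
  block_comb c123 b124 (Nat.zero_le _) (Nat.le_of_ble_eq_true rfl) rfl

theorem c125 : Block F al 0 32256 10650 :=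
  block_comb c124 b125 (Nat.zero_le _) (Nat.le_of_ble_eq_true rfl) rfl

theorem c126 : Block F al 0 32512 10734 :=
  block_comb c125 b126 (Nat.zero_le _) (Nat.le_of_ble_eq_true rfl) rfl

theorem c127 : Block F al 0 32768 10895 :=
  block_comb c126 b127 (Nat.zero_le _) (Nat.le_of_ble_eq_true rfl) rfl

theorem c128 : Block F al 0 33024 11116 :=
  block_comb c127 b128 (Nat.zero_le _) (Nat.le_of_ble_eq_true rfl) rfl

theorem c129 : Block F al 0 33280 11295 :=
  block_comb c128 b129 (Nat.zero_le _) (Nat.le_of_ble_eq_true rfl) rfl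

theorem c130 : Block F al 0 33536 11356 :=
  block_comb c129 b130 (Nat.zero_le _) (Nat.le_of_ble_eq_true rfl) rfl

theorem c131 : Block F al 0 33792 11505 :=
  block_comb c130 b131 (Nat.zero_le _) (Nat.le_of_ble_eq_true rfl) rfl

theorem c132 : Block F al 0 34048 11509 :=
  block_comb c131 b132 (Nat.zero_le _) (Nat.le_of_ble_eq_true rfl) rfl

theorem c133 : Block F al 0 34304 11521 :=
  block_comb c132 b133 (Nat.zero_le _) (Nat.le_of_ble_eq_true rfl) rfl

theorem c134 : Block F al 0 34560 11577 :=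
  block_comb c133 b134 (Nat.zero_le _) (Nat.le_of_ble_eq_true rfl) rfl

theorem c135 : Block F al 0 34816 11610 :=
  block_comb c134 b135 (Nat.zero_le _) (Nat.le_of_ble_eq_true rfl) rfl

theorem c136 : Block F al 0 35072 11668 :=
  block_comb c135 b136 (Nat.zero_le _) (Nat.le_of_ble_eq_true rfl) rfl

theorem c137 : Block F al 0 35328 11742 :=
  block_comb c136 b137 (Nat.zero_le _) (Nat.le_of_ble_eq_true rfl) rfl

theorem c138 : Block F al 0 35584 11742 :=
  block_comb c137 b138 (Nat.zero_le _) (Nat.le_of_ble_eq_true rfl) rfl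

theorem c139 : Block F al 0 35840 11755 :=
  block_comb c138 b139 (Nat.zero_le _) (Nat.le_of_ble_eq_true rfl) rfl

theorem c140 : Block F al 0 36096 11759 :=
  block_comb c139 b140 (Nat.zero_le _) (Nat.le_of_ble_eq_true rfl) rfl

theorem c141 : Block F al 0 36352 11818 :=
  block_comb c140 b141 (Nat.zero_le _) (Nat.le_of_ble_eq_true rfl) rfl

theorem c142 : Block F al 0 36608 11848 :=
  block_comb c141 b142 (Nat.zero_le _) (Nat.le_of_ble_eq_true rfl) rfl

theorem c143 : Block F al 0 36864 11875 :=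
  block_comb c142 b143 (Nat.zero_le _) (Nat.le_of_ble_eq_true rfl) rfl

theorem c144 : Block F al 0 37120 11875 :=
  block_comb c143 b144 (Nat.zero_le _) (Nat.le_of_ble_eq_true rfl) rfl

theorem c145 : Block F al 0 37376 11887 :=
  block_comb c144 b145 (Nat.zero_le _) (Nat.le_of_ble_eq_true rfl) rfl

theorem c146 : Block F al 0 37632 11934 :=
  block_comb c145 b146 (Nat.zero_le _) (Nat.le_of_ble_eq_true rfl) rfl

theorem c147 : Block F al 0 37888 11968 :=
  block_comb c146 b147 (Nat.zero_le _) (Nat.le_of_ble_eq_true rfl) rfl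

theorem c148 : Block F al 0 38144 11968 :=
  block_comb c147 b148 (Nat.zero_le _) (Nat.le_of_ble_eq_true rfl) rfl

theorem c149 : Block F al 0 38400 11990 :=
  block_comb c148 b149 (Nat.zero_le _) (Nat.le_of_ble_eq_true rfl) rfl

theorem c150 : Block F al 0 38656 11990 :=
  block_comb c149 b150 (Nat.zero_le _) (Nat.le_of_ble_eq_true rfl) rfl

theorem c151 : Block F al 0 38912 11991 :=
  block_comb c150 b151 (Nat.zero_le _) (Nat.le_of_ble_eq_true rfl) rfl

theorem c152 : Block F al 0 39168 11993 :=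
  block_comb c151 b152 (Nat.zero_le _) (Nat.le_of_ble_eq_true rfl) rfl

theorem c153 : Block F al 0 39424 11996 :=
  block_comb c152 b153 (Nat.zero_le _) (Nat.le_of_ble_eq_true rfl) rfl

theorem c154 : Block F al 0 39680 11996 :=
  block_comb c153 b154 (Nat.zero_le _) (Nat.le_of_ble_eq_true rfl) rfl

theorem c155 : Block F al 0 39936 11996 :=
  block_comb c154 b155 (Nat.zero_le _) (Nat.le_of_ble_eq_true rfl) rfl

theorem c156 : Block F al 0 40192 11996 :=
  block_comb c155 b156 (Nat.zero_le _) (Nat.le_of_ble_eq_true rfl) rfl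

theorem c157 : Block F al 0 40448 11996 :=
  block_comb c156 b157 (Nat.zero_le _) (Nat.le_of_ble_eq_true rfl) rfl

theorem c158 : Block F al 0 40704 11996 :=
  block_comb c157 b158 (Nat.zero_le _) (Nat.le_of_ble_eq_true rfl) rfl

theorem c159 : Block F al 0 40960 11996 :=
  block_comb c158 b159 (Nat.zero_le _) (Nat.le_of_ble_eq_true rfl) rfl

theorem c160 : Block F al 0 41216 11996 :=
  block_comb c159 b160 (Nat.zero_le _) (Nat.le_of_ble_eq_true rfl) rfl

theorem c161 : Block F al 0 41472 11999 :=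
  block_comb c160 b161 (Nat.zero_le _) (Nat.le_of_ble_eq_true rfl) rfl

theorem c162 : Block F al 0 41728 12034 :=
  block_comb c161 b162 (Nat.zero_le _) (Nat.le_of_ble_eq_true rfl) rfl

theorem c163 : Block F al 0 41984 12034 :=
  block_comb c162 b163 (Nat.zero_le _) (Nat.le_of_ble_eq_true rfl) rfl

theorem c164 : Block F al 0 42240 12074 :=
  block_comb c163 b164 (Nat.zero_le _) (Nat.le_of_ble_eq_true rfl) rfl

theorem c165 : Block F al 0 42496 12106 :=
  block_comb c164 b165 (Nat.zero_le _) (Nat.le_of_ble_eq_true rfl) rfl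

theorem c166 : Block F al 0 42752 12203 :=
  block_comb c165 b166 (Nat.zero_le _) (Nat.le_of_ble_eq_true rfl) rfl

theorem c167 : Block F al 0 43008 12203 :=
  block_comb c166 b167 (Nat.zero_le _) (Nat.le_of_ble_eq_true rfl) rfl

theorem c168 : Block F al 0 43264 12328 :=
  block_comb c167 b168 (Nat.zero_le _) (Nat.le_of_ble_eq_true rfl) rfl

theorem c169 : Block F al 0 43520 12476 :=
  block_comb c168 b169 (Nat.zero_le _) (Nat.le_of_ble_eq_true rfl) rfl

theorem c170 : Block F al 0 43776 12533 :=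
  block_comb c169 b170 (Nat.zero_le _) (Nat.le_of_ble_eq_true rfl) rfl

theorem c171 : Block F al 0 44032 12613 :=
  block_comb c170 b171 (Nat.zero_le _) (Nat.le_of_ble_eq_true rfl) rfl

theorem c172 : Block F al 0 44288 12637 :=
  block_comb c171 b172 (Nat.zero_le _) (Nat.le_of_ble_eq_true rfl) rfl

theorem c173 : Block F al 0 44544 12675 :=
  block_comb c172 b173 (Nat.zero_le _) (Nat.le_of_ble_eq_true rfl) rfl

theorem c174 : Block F al 0 44800 12800 :=
  block_comb c173 b174 (Nat.zero_le _) (Nat.le_of_ble_eq_true rfl) rfl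

theorem c175 : Block F al 0 45056 12947 :=
  block_comb c174 b175 (Nat.zero_le _) (Nat.le_of_ble_eq_true rfl) rfl

theorem c176 : Block F al 0 45312 13120 :=
  block_comb c175 b176 (Nat.zero_le _) (Nat.le_of_ble_eq_true rfl) rfl

theorem c177 : Block F al 0 45568 13321 :=
  block_comb c176 b177 (Nat.zero_le _) (Nat.le_of_ble_eq_true rfl) rfl

theorem c178 : Block F al 0 45824 13447 :=
  block_comb c177 b178 (Nat.zero_le _) (Nat.le_of_ble_eq_true rfl) rfl

theorem c179 : Block F al 0 46080 13478 :=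
  block_comb c178 b179 (Nat.zero_le _) (Nat.le_of_ble_eq_true rfl) rfl

theorem c180 : Block F al 0 46336 13621 :=
  block_comb c179 b180 (Nat.zero_le _) (Nat.le_of_ble_eq_true rfl) rfl

theorem c181 : Block F al 0 46592 13671 :=
  block_comb c180 b181 (Nat.zero_le _) (Nat.le_of_ble_eq_true rfl) rfl

theorem c182 : Block F al 0 46848 13671 :=
  block_comb c181 b182 (Nat.zero_le _) (Nat.le_of_ble_eq_true rfl) rfl

theorem c183 : Block F al 0 47104 13679 :=
  block_comb c182 b183 (Nat.zero_le _) (Nat.le_of_ble_eq_true rfl) rfl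

theorem c184 : Block F al 0 47360 13722 :=
  block_comb c183 b184 (Nat.zero_le _) (Nat.le_of_ble_eq_true rfl) rfl

theorem c185 : Block F al 0 47616 13726 :=
  block_comb c184 b185 (Nat.zero_le _) (Nat.le_of_ble_eq_true rfl) rfl

theorem c186 : Block F al 0 47872 13753 :=
  block_comb c185 b186 (Nat.zero_le _) (Nat.le_of_ble_eq_true rfl) rfl

theorem c187 : Block F al 0 48128 13797 :=
  block_comb c186 b187 (Nat.zero_le _) (Nat.le_of_ble_eq_true rfl) rfl

theorem c188 : Block F al 0 48384 13833 :=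
  block_comb c187 b188 (Nat.zero_le _) (Nat.le_of_ble_eq_true rfl) rfl

theorem c189 : Block F al 0 48640 13859 :=
  block_comb c188 b189 (Nat.zero_le _) (Nat.le_of_ble_eq_true rfl) rfl

theorem c190 : Block F al 0 48896 13859 :=
  block_comb c189 b190 (Nat.zero_le _) (Nat.le_of_ble_eq_true rfl) rfl

theorem c191 : Block F al 0 49152 13859 :=
  block_comb c190 b191 (Nat.zero_le _) (Nat.le_of_ble_eq_true rfl) rfl

theorem c192 : Block F al 0 49408 13871 :=
  block_comb c191 b192 (Nat.zero_le _) (Nat.le_of_ble_eq_true rfl) rfl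

theorem c193 : Block F al 0 49664 13871 :=
  block_comb c192 b193 (Nat.zero_le _) (Nat.le_of_ble_eq_true rfl) rfl

theorem c194 : Block F al 0 49920 13920 :=
  block_comb c193 b194 (Nat.zero_le _) (Nat.le_of_ble_eq_true rfl) rfl

theorem c195 : Block F al 0 50176 13926 :=
  block_comb c194 b195 (Nat.zero_le _) (Nat.le_of_ble_eq_true rfl) rfl

theorem c196 : Block F al 0 50432 13966 :=
  block_comb c195 b196 (Nat.zero_le _) (Nat.le_of_ble_eq_true rfl) rfl

theorem c197 : Block F al 0 50688 13966 :=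
  block_comb c196 b197 (Nat.zero_le _) (Nat.le_of_ble_eq_true rfl) rfl

theorem c198 : Block F al 0 50944 13966 :=
  block_comb c197 b198 (Nat.zero_le _) (Nat.le_of_ble_eq_true rfl) rfl

theorem c199 : Block F al 0 51200 13966 :=
  block_comb c198 b199 (Nat.zero_le _) (Nat.le_of_ble_eq_true rfl) rfl

theorem c200 : Block F al 0 51456 13972 :=
  block_comb c199 b200 (Nat.zero_le _) (Nat.le_of_ble_eq_true rfl) rfl

theorem c201 : Block F al 0 51712 13999 :=
  block_comb c200 b201 (Nat.zero_le _) (Nat.le_of_ble_eq_true rfl) rfl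

theorem c202 : Block F al 0 51968 14011 :=
  block_comb c201 b202 (Nat.zero_le _) (Nat.le_of_ble_eq_true rfl) rfl

theorem c203 : Block F al 0 52224 14020 :=
  block_comb c202 b203 (Nat.zero_le _) (Nat.le_of_ble_eq_true rfl) rfl

theorem c204 : Block F al 0 52480 14020 :=
  block_comb c203 b204 (Nat.zero_le _) (Nat.le_of_ble_eq_true rfl) rfl

theorem c205 : Block F al 0 52736 14032 :=
  block_comb c204 b205 (Nat.zero_le _) (Nat.le_of_ble_eq_true rfl) rfl

theorem c206 : Block F al 0 52992 14032 :=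
  block_comb c205 b206 (Nat.zero_le _) (Nat.le_of_ble_eq_true rfl) rfl

theorem c207 : Block F al 0 53248 14032 :=
  block_comb c206 b207 (Nat.zero_le _) (Nat.le_of_ble_eq_true rfl) rfl

theorem c208 : Block F al 0 53504 14032 :=
  block_comb c207 b208 (Nat.zero_le _) (Nat.le_of_ble_eq_true rfl) rfl

theorem c209 : Block F al 0 53760 14032 :=
  block_comb c208 b209 (Nat.zero_le _) (Nat.le_of_ble_eq_true rfl) rfl

theorem c210 : Block F al 0 54016 14032 :=
  block_comb c209 b210 (Nat.zero_le _) (Nat.le_of_ble_eq_true rfl) rfl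

theorem c211 : Block F al 0 54272 14032 :=
  block_comb c210 b211 (Nat.zero_le _) (Nat.le_of_ble_eq_true rfl) rfl

theorem c212 : Block F al 0 54528 14032 :=
  block_comb c211 b212 (Nat.zero_le _) (Nat.le_of_ble_eq_true rfl) rfl

theorem c213 : Block F al 0 54784 14032 :=
  block_comb c212 b213 (Nat.zero_le _) (Nat.le_of_ble_eq_true rfl) rfl

theorem c214 : Block F al 0 55040 14032 :=
  block_comb c213 b214 (Nat.zero_le _) (Nat.le_of_ble_eq_true rfl) rfl

theorem c215 : Block F al 0 55296 14032 :=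
  block_comb c214 b215 (Nat.zero_le _) (Nat.le_of_ble_eq_true rfl) rfl

theorem c216 : Block F al 0 55552 14032 :=
  block_comb c215 b216 (Nat.zero_le _) (Nat.le_of_ble_eq_true rfl) rfl

theorem c217 : Block F al 0 55808 14032 :=
  block_comb c216 b217 (Nat.zero_le _) (Nat.le_of_ble_eq_true rfl) rfl

theorem c218 : Block F al 0 56064 14032 :=
  block_comb c217 b218 (Nat.zero_le _) (Nat.le_of_ble_eq_true rfl) rfl

theorem c219 : Block F al 0 56320 14032 :=
  block_comb c218 b219 (Nat.zero_le _) (Nat.le_of_ble_eq_true rfl) rfl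

theorem c220 : Block F al 0 56576 14032 :=
  block_comb c219 b220 (Nat.zero_le _) (Nat.le_of_ble_eq_true rfl) rfl

theorem c221 : Block F al 0 56832 14033 :=
  block_comb c220 b221 (Nat.zero_le _) (Nat.le_of_ble_eq_true rfl) rfl

theorem c222 : Block F al 0 57088 14063 :=
  block_comb c221 b222 (Nat.zero_le _) (Nat.le_of_ble_eq_true rfl) rfl

theorem c223 : Block F al 0 57344 14063 :=
  block_comb c222 b223 (Nat.zero_le _) (Nat.le_of_ble_eq_true rfl) rfl

theorem c224 : Block F al 0 57600 14070 :=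
  block_comb c223 b224 (Nat.zero_le _) (Nat.le_of_ble_eq_true rfl) rfl

theorem c225 : Block F al 0 57856 14104 :=
  block_comb c224 b225 (Nat.zero_le _) (Nat.le_of_ble_eq_true rfl) rfl

theorem c226 : Block F al 0 58112 14130 :=
  block_comb c225 b226 (Nat.zero_le _) (Nat.le_of_ble_eq_true rfl) rfl

theorem c227 : Block F al 0 58368 14139 :=
  block_comb c226 b227 (Nat.zero_le _) (Nat.le_of_ble_eq_true rfl) rfl

theorem c228 : Block F al 0 58624 14251 :=
  block_comb c227 b228 (Nat.zero_le _) (Nat.le_of_ble_eq_true rfl) rfl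

theorem c229 : Block F al 0 58880 14251 :=
  block_comb c228 b229 (Nat.zero_le _) (Nat.le_of_ble_eq_true rfl) rfl

theorem c230 : Block F al 0 59136 14407 :=
  block_comb c229 b230 (Nat.zero_le _) (Nat.le_of_ble_eq_true rfl) rfl

theorem c231 : Block F al 0 59392 14474 :=
  block_comb c230 b231 (Nat.zero_le _) (Nat.le_of_ble_eq_true rfl) rfl

theorem c232 : Block F al 0 59648 14595 :=
  block_comb c231 b232 (Nat.zero_le _) (Nat.le_of_ble_eq_true rfl) rfl

theorem c233 : Block F al 0 59904 14629 :=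
  block_comb c232 b233 (Nat.zero_le _) (Nat.le_of_ble_eq_true rfl) rfl

theorem c234 : Block F al 0 60160 14755 :=
  block_comb c233 b234 (Nat.zero_le _) (Nat.le_of_ble_eq_true rfl) rfl

theorem c235 : Block F al 0 60416 14755 :=
  block_comb c234 b235 (Nat.zero_le _) (Nat.le_of_ble_eq_true rfl) rfl

theorem c236 : Block F al 0 60672 14787 :=
  block_comb c235 b236 (Nat.zero_le _) (Nat.le_of_ble_eq_true rfl) rfl

theorem c237 : Block F al 0 60928 14808 :=
  block_comb c236 b237 (Nat.zero_le _) (Nat.le_of_ble_eq_true rfl) rfl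

theorem c238 : Block F al 0 61184 14887 :=
  block_comb c237 b238 (Nat.zero_le _) (Nat.le_of_ble_eq_true rfl) rfl

theorem c239 : Block F al 0 61440 14997 :=
  block_comb c238 b239 (Nat.zero_le _) (Nat.le_of_ble_eq_true rfl) rfl

theorem c240 : Block F al 0 61696 15108 :=
  block_comb c239 b240 (Nat.zero_le _) (Nat.le_of_ble_eq_true rfl) rfl

theorem c241 : Block F al 0 61952 15214 :=
  block_comb c240 b241 (Nat.zero_le _) (Nat.le_of_ble_eq_true rfl) rfl

theorem c242 : Block F al 0 62208 15376 :=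
  block_comb c241 b242 (Nat.zero_le _) (Nat.le_of_ble_eq_true rfl) rfl

theorem c243 : Block F al 0 62464 15521 :=
  block_comb c242 b243 (Nat.zero_le _) (Nat.le_of_ble_eq_true rfl) rfl

theorem c244 : Block F al 0 62720 15623 :=
  block_comb c243 b244 (Nat.zero_le _) (Nat.le_of_ble_eq_true rfl) rfl

theorem c245 : Block F al 0 62976 15641 :=
  block_comb c244 b245 (Nat.zero_le _) (Nat.le_of_ble_eq_true rfl) rfl

theorem c246 : Block F al 0 63232 15699 :=
  block_comb c245 b246 (Nat.zero_le _) (Nat.le_of_ble_eq_true rfl) rfl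

theorem c247 : Block F al 0 63488 15840 :=
  block_comb c246 b247 (Nat.zero_le _) (Nat.le_of_ble_eq_true rfl) rfl

theorem c248 : Block F al 0 63744 15859 :=
  block_comb c247 b248 (Nat.zero_le _) (Nat.le_of_ble_eq_true rfl) rfl

theorem c249 : Block F al 0 64000 15859 :=
  block_comb c248 b249 (Nat.zero_le _) (Nat.le_of_ble_eq_true rfl) rfl

theorem c250 : Block F al 0 64256 15862 :=
  block_comb c249 b250 (Nat.zero_le _) (Nat.le_of_ble_eq_true rfl) rfl

theorem c251 : Block F al 0 64512 15863 :=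
  block_comb c250 b251 (Nat.zero_le _) (Nat.le_of_ble_eq_true rfl) rfl

theorem c252 : Block F al 0 64768 15877 :=
  block_comb c251 b252 (Nat.zero_le _) (Nat.le_of_ble_eq_true rfl) rfl

theorem c253 : Block F al 0 65024 15886 :=
  block_comb c252 b253 (Nat.zero_le _) (Nat.le_of_ble_eq_true rfl) rfl

theorem c254 : Block F al 0 65280 15886 :=
  block_comb c253 b254 (Nat.zero_le _) (Nat.le_of_ble_eq_true rfl) rfl

theorem c255 : Block F al 0 65536 15911 :=
  block_comb c254 b255 (Nat.zero_le _) (Nat.le_of_ble_eq_true rfl) rfl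

theorem c256 : Block F al 0 65792 15930 :=
  block_comb c255 b256 (Nat.zero_le _) (Nat.le_of_ble_eq_true rfl) rfl

theorem c257 : Block F al 0 66048 15947 :=
  block_comb c256 b257 (Nat.zero_le _) (Nat.le_of_ble_eq_true rfl) rfl

theorem c258 : Block F al 0 66304 15971 :=
  block_comb c257 b258 (Nat.zero_le _) (Nat.le_of_ble_eq_true rfl) rfl

theorem c259 : Block F al 0 66560 15977 :=
  block_comb c258 b259 (Nat.zero_le _) (Nat.le_of_ble_eq_true rfl) rfl

theorem c260 : Block F al 0 66816 15977 :=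
  block_comb c259 b260 (Nat.zero_le _) (Nat.le_of_ble_eq_true rfl) rfl

theorem c261 : Block F al 0 67072 15977 :=
  block_comb c260 b261 (Nat.zero_le _) (Nat.le_of_ble_eq_true rfl) rfl

theorem c262 : Block F al 0 67328 15983 :=
  block_comb c261 b262 (Nat.zero_le _) (Nat.le_of_ble_eq_true rfl) rfl

theorem c263 : Block F al 0 67584 15983 :=
  block_comb c262 b263 (Nat.zero_le _) (Nat.le_of_ble_eq_true rfl) rfl

theorem c264 : Block F al 0 67840 15983 :=
  block_comb c263 b264 (Nat.zero_le _) (Nat.le_of_ble_eq_true rfl) rfl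

theorem c265 : Block F al 0 68096 16018 :=
  block_comb c264 b265 (Nat.zero_le _) (Nat.le_of_ble_eq_true rfl) rfl

theorem c266 : Block F al 0 68352 16020 :=
  block_comb c265 b266 (Nat.zero_le _) (Nat.le_of_ble_eq_true rfl) rfl

theorem c267 : Block F al 0 68608 16027 :=
  block_comb c266 b267 (Nat.zero_le _) (Nat.le_of_ble_eq_true rfl) rfl

theorem c268 : Block F al 0 68864 16049 :=
  block_comb c267 b268 (Nat.zero_le _) (Nat.le_of_ble_eq_true rfl) rfl

theorem c269 : Block F al 0 69120 16049 :=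
  block_comb c268 b269 (Nat.zero_le _) (Nat.le_of_ble_eq_true rfl) rfl

theorem c270 : Block F al 0 69376 16049 :=
  block_comb c269 b270 (Nat.zero_le _) (Nat.le_of_ble_eq_true rfl) rfl

theorem c271 : Block F al 0 69632 16049 :=
  block_comb c270 b271 (Nat.zero_le _) (Nat.le_of_ble_eq_true rfl) rfl

theorem c272 : Block F al 0 69888 16049 :=
  block_comb c271 b272 (Nat.zero_le _) (Nat.le_of_ble_eq_true rfl) rfl

theorem c273 : Block F al 0 70144 16049 :=
  block_comb c272 b273 (Nat.zero_le _) (Nat.le_of_ble_eq_true rfl) rfl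

theorem c274 : Block F al 0 70400 16055 :=
  block_comb c273 b274 (Nat.zero_le _) (Nat.le_of_ble_eq_true rfl) rfl

theorem c275 : Block F al 0 70656 16062 :=
  block_comb c274 b275 (Nat.zero_le _) (Nat.le_of_ble_eq_true rfl) rfl

theorem c276 : Block F al 0 70912 16066 :=
  block_comb c275 b276 (Nat.zero_le _) (Nat.le_of_ble_eq_true rfl) rfl

theorem c277 : Block F al 0 71168 16072 :=
  block_comb c276 b277 (Nat.zero_le _) (Nat.le_of_ble_eq_true rfl) rfl

theorem c278 : Block F al 0 71424 16072 :=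
  block_comb c277 b278 (Nat.zero_le _) (Nat.le_of_ble_eq_true rfl) rfl

theorem c279 : Block F al 0 71680 16074 :=
  block_comb c278 b279 (Nat.zero_le _) (Nat.le_of_ble_eq_true rfl) rfl

theorem c280 : Block F al 0 71936 16075 :=
  block_comb c279 b280 (Nat.zero_le _) (Nat.le_of_ble_eq_true rfl) rfl

theorem c281 : Block F al 0 72192 16075 :=
  block_comb c280 b281 (Nat.zero_le _) (Nat.le_of_ble_eq_true rfl) rfl

theorem c282 : Block F al 0 72448 16075 :=
  block_comb c281 b282 (Nat.zero_le _) (Nat.le_of_ble_eq_true rfl) rfl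

theorem c283 : Block F al 0 72704 16075 :=
  block_comb c282 b283 (Nat.zero_le _) (Nat.le_of_ble_eq_true rfl) rfl

theorem c284 : Block F al 0 72960 16075 :=
  block_comb c283 b284 (Nat.zero_le _) (Nat.le_of_ble_eq_true rfl) rfl

theorem c285 : Block F al 0 73216 16075 :=
  block_comb c284 b285 (Nat.zero_le _) (Nat.le_of_ble_eq_true rfl) rfl

theorem c286 : Block F al 0 73472 16075 :=
  block_comb c285 b286 (Nat.zero_le _) (Nat.le_of_ble_eq_true rfl) rfl

theorem c287 : Block F al 0 73728 16075 :=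
  block_comb c286 b287 (Nat.zero_le _) (Nat.le_of_ble_eq_true rfl) rfl

theorem c288 : Block F al 0 73984 16075 :=
  block_comb c287 b288 (Nat.zero_le _) (Nat.le_of_ble_eq_true rfl) rfl

theorem c289 : Block F al 0 74240 16075 :=
  block_comb c288 b289 (Nat.zero_le _) (Nat.le_of_ble_eq_true rfl) rfl

theorem c290 : Block F al 0 74496 16075 :=
  block_comb c289 b290 (Nat.zero_le _) (Nat.le_of_ble_eq_true rfl) rfl

theorem c291 : Block F al 0 74752 16075 :=
  block_comb c290 b291 (Nat.zero_le _) (Nat.le_of_ble_eq_true rfl) rfl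

theorem c292 : Block F al 0 75008 16075 :=
  block_comb c291 b292 (Nat.zero_le _) (Nat.le_of_ble_eq_true rfl) rfl

theorem c293 : Block F al 0 75264 16075 :=
  block_comb c292 b293 (Nat.zero_le _) (Nat.le_of_ble_eq_true rfl) rfl

theorem c294 : Block F al 0 75520 16075 :=
  block_comb c293 b294 (Nat.zero_le _) (Nat.le_of_ble_eq_true rfl) rfl

theorem c295 : Block F al 0 75776 16075 :=
  block_comb c294 b295 (Nat.zero_le _) (Nat.le_of_ble_eq_true rfl) rfl

theorem c296 : Block F al 0 76032 16075 :=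
  block_comb c295 b296 (Nat.zero_le _) (Nat.le_of_ble_eq_true rfl) rfl

theorem c297 : Block F al 0 76288 16093 :=
  block_comb c296 b297 (Nat.zero_le _) (Nat.le_of_ble_eq_true rfl) rfl

theorem c298 : Block F al 0 76544 16093 :=
  block_comb c297 b298 (Nat.zero_le _) (Nat.le_of_ble_eq_true rfl) rfl

theorem c299 : Block F al 0 76800 16125 :=
  block_comb c298 b299 (Nat.zero_le _) (Nat.le_of_ble_eq_true rfl) rfl

theorem c300 : Block F al 0 77056 16139 :=
  block_comb c299 b300 (Nat.zero_le _) (Nat.le_of_ble_eq_true rfl) rfl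

theorem c301 : Block F al 0 77312 16143 :=
  block_comb c300 b301 (Nat.zero_le _) (Nat.le_of_ble_eq_true rfl) rfl

theorem c302 : Block F al 0 77568 16269 :=
  block_comb c301 b302 (Nat.zero_le _) (Nat.le_of_ble_eq_true rfl) rfl

theorem c303 : Block F al 0 77824 16273 :=
  block_comb c302 b303 (Nat.zero_le _) (Nat.le_of_ble_eq_true rfl) rfl

theorem c304 : Block F al 0 78080 16424 :=
  block_comb c303 b304 (Nat.zero_le _) (Nat.le_of_ble_eq_true rfl) rfl

theorem c305 : Block F al 0 78336 16486 :=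
  block_comb c304 b305 (Nat.zero_le _) (Nat.le_of_ble_eq_true rfl) rfl

theorem c306 : Block F al 0 78592 16655 :=
  block_comb c305 b306 (Nat.zero_le _) (Nat.le_of_ble_eq_true rfl) rfl

theorem c307 : Block F al 0 78848 16657 :=
  block_comb c306 b307 (Nat.zero_le _) (Nat.le_of_ble_eq_true rfl) rfl

theorem c308 : Block F al 0 79104 16737 :=
  block_comb c307 b308 (Nat.zero_le _) (Nat.le_of_ble_eq_true rfl) rfl

theorem c309 : Block F al 0 79360 16828 :=
  block_comb c308 b309 (Nat.zero_le _) (Nat.le_of_ble_eq_true rfl) rfl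

theorem c310 : Block F al 0 79616 16828 :=
  block_comb c309 b310 (Nat.zero_le _) (Nat.le_of_ble_eq_true rfl) rfl

theorem c311 : Block F al 0 79872 16849 :=
  block_comb c310 b311 (Nat.zero_le _) (Nat.le_of_ble_eq_true rfl) rfl

theorem c312 : Block F al 0 80128 16874 :=
  block_comb c311 b312 (Nat.zero_le _) (Nat.le_of_ble_eq_true rfl) rfl

theorem c313 : Block F al 0 80384 16916 :=
  block_comb c312 b313 (Nat.zero_le _) (Nat.le_of_ble_eq_true rfl) rfl

theorem c314 : Block F al 0 80640 16956 :=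
  block_comb c313 b314 (Nat.zero_le _) (Nat.le_of_ble_eq_true rfl) rfl

theorem c315 : Block F al 0 80896 17118 :=
  block_comb c314 b315 (Nat.zero_le _) (Nat.le_of_ble_eq_true rfl) rfl

theorem c316 : Block F al 0 81152 17152 :=
  block_comb c315 b316 (Nat.zero_le _) (Nat.le_of_ble_eq_true rfl) rfl

theorem c317 : Block F al 0 81408 17248 :=
  block_comb c316 b317 (Nat.zero_le _) (Nat.le_of_ble_eq_true rfl) rfl

theorem c318 : Block F al 0 81664 17376 :=
  block_comb c317 b318 (Nat.zero_le _) (Nat.le_of_ble_eq_true rfl) rfl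

theorem c319 : Block F al 0 81920 17525 :=
  block_comb c318 b319 (Nat.zero_le _) (Nat.le_of_ble_eq_true rfl) rfl

theorem c320 : Block F al 0 82176 17559 :=
  block_comb c319 b320 (Nat.zero_le _) (Nat.le_of_ble_eq_true rfl) rfl

theorem c321 : Block F al 0 82432 17662 :=
  block_comb c320 b321 (Nat.zero_le _) (Nat.le_of_ble_eq_true rfl) rfl

theorem c322 : Block F al 0 82688 17675 :=
  block_comb c321 b322 (Nat.zero_le _) (Nat.le_of_ble_eq_true rfl) rfl

theorem c323 : Block F al 0 82944 17694 :=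
  block_comb c322 b323 (Nat.zero_le _) (Nat.le_of_ble_eq_true rfl) rfl

theorem c324 : Block F al 0 83200 17805 :=
  block_comb c323 b324 (Nat.zero_le _) (Nat.le_of_ble_eq_true rfl) rfl

theorem c325 : Block F al 0 83456 17885 :=
  block_comb c324 b325 (Nat.zero_le _) (Nat.le_of_ble_eq_true rfl) rfl

theorem c326 : Block F al 0 83712 17887 :=
  block_comb c325 b326 (Nat.zero_le _) (Nat.le_of_ble_eq_true rfl) rfl

theorem c327 : Block F al 0 83968 17887 :=
  block_comb c326 b327 (Nat.zero_le _) (Nat.le_of_ble_eq_true rfl) rfl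

theorem c328 : Block F al 0 84224 17889 :=
  block_comb c327 b328 (Nat.zero_le _) (Nat.le_of_ble_eq_true rfl) rfl

theorem c329 : Block F al 0 84480 17892 :=
  block_comb c328 b329 (Nat.zero_le _) (Nat.le_of_ble_eq_true rfl) rfl

theorem c330 : Block F al 0 84736 17893 :=
  block_comb c329 b330 (Nat.zero_le _) (Nat.le_of_ble_eq_true rfl) rfl

theorem c331 : Block F al 0 84992 17896 :=
  block_comb c330 b331 (Nat.zero_le _) (Nat.le_of_ble_eq_true rfl) rfl

theorem c332 : Block F al 0 85248 17914 :=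
  block_comb c331 b332 (Nat.zero_le _) (Nat.le_of_ble_eq_true rfl) rfl

theorem c333 : Block F al 0 85504 17921 :=
  block_comb c332 b333 (Nat.zero_le _) (Nat.le_of_ble_eq_true rfl) rfl

theorem c334 : Block F al 0 85760 17943 :=
  block_comb c333 b334 (Nat.zero_le _) (Nat.le_of_ble_eq_true rfl) rfl

theorem c335 : Block F al 0 86016 17952 :=
  block_comb c334 b335 (Nat.zero_le _) (Nat.le_of_ble_eq_true rfl) rfl

theorem c336 : Block F al 0 86272 17952 :=
  block_comb c335 b336 (Nat.zero_le _) (Nat.le_of_ble_eq_true rfl) rfl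

theorem c337 : Block F al 0 86528 17952 :=
  block_comb c336 b337 (Nat.zero_le _) (Nat.le_of_ble_eq_true rfl) rfl

theorem c338 : Block F al 0 86784 17952 :=
  block_comb c337 b338 (Nat.zero_le _) (Nat.le_of_ble_eq_true rfl) rfl

theorem c339 : Block F al 0 87040 17959 :=
  block_comb c338 b339 (Nat.zero_le _) (Nat.le_of_ble_eq_true rfl) rfl

theorem c340 : Block F al 0 87296 17972 :=
  block_comb c339 b340 (Nat.zero_le _) (Nat.le_of_ble_eq_true rfl) rfl

theorem c341 : Block F al 0 87552 17973 :=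
  block_comb c340 b341 (Nat.zero_le _) (Nat.le_of_ble_eq_true rfl) rfl

theorem c342 : Block F al 0 87808 17976 :=
  block_comb c341 b342 (Nat.zero_le _) (Nat.le_of_ble_eq_true rfl) rfl

theorem c343 : Block F al 0 88064 17981 :=
  block_comb c342 b343 (Nat.zero_le _) (Nat.le_of_ble_eq_true rfl) rfl

theorem c344 : Block F al 0 88320 17981 :=
  block_comb c343 b344 (Nat.zero_le _) (Nat.le_of_ble_eq_true rfl) rfl

theorem c345 : Block F al 0 88576 17981 :=
  block_comb c344 b345 (Nat.zero_le _) (Nat.le_of_ble_eq_true rfl) rfl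

theorem c346 : Block F al 0 88832 17981 :=
  block_comb c345 b346 (Nat.zero_le _) (Nat.le_of_ble_eq_true rfl) rfl

theorem c347 : Block F al 0 89088 17981 :=
  block_comb c346 b347 (Nat.zero_le _) (Nat.le_of_ble_eq_true rfl) rfl

theorem c348 : Block F al 0 89344 17982 :=
  block_comb c347 b348 (Nat.zero_le _) (Nat.le_of_ble_eq_true rfl) rfl

theorem c349 : Block F al 0 89600 17984 :=
  block_comb c348 b349 (Nat.zero_le _) (Nat.le_of_ble_eq_true rfl) rfl

theorem c350 : Block F al 0 89856 17984 :=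
  block_comb c349 b350 (Nat.zero_le _) (Nat.le_of_ble_eq_true rfl) rfl

theorem c351 : Block F al 0 90112 17984 :=
  block_comb c350 b351 (Nat.zero_le _) (Nat.le_of_ble_eq_true rfl) rfl

theorem c352 : Block F al 0 90368 17984 :=
  block_comb c351 b352 (Nat.zero_le _) (Nat.le_of_ble_eq_true rfl) rfl

theorem c353 : Block F al 0 90624 17984 :=
  block_comb c352 b353 (Nat.zero_le _) (Nat.le_of_ble_eq_true rfl) rfl

theorem c354 : Block F al 0 90880 17984 :=
  block_comb c353 b354 (Nat.zero_le _) (Nat.le_of_ble_eq_true rfl) rfl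

theorem c355 : Block F al 0 91136 17984 :=
  block_comb c354 b355 (Nat.zero_le _) (Nat.le_of_ble_eq_true rfl) rfl

theorem c356 : Block F al 0 91392 17984 :=
  block_comb c355 b356 (Nat.zero_le _) (Nat.le_of_ble_eq_true rfl) rfl

theorem c357 : Block F al 0 91648 17984 :=
  block_comb c356 b357 (Nat.zero_le _) (Nat.le_of_ble_eq_true rfl) rfl

theorem c358 : Block F al 0 91904 17984 :=
  block_comb c357 b358 (Nat.zero_le _) (Nat.le_of_ble_eq_true rfl) rfl

theorem c359 : Block F al 0 92160 17984 :=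
  block_comb c358 b359 (Nat.zero_le _) (Nat.le_of_ble_eq_true rfl) rfl

theorem c360 : Block F al 0 92416 18017 :=
  block_comb c359 b360 (Nat.zero_le _) (Nat.le_of_ble_eq_true rfl) rfl

theorem c361 : Block F al 0 92672 18091 :=
  block_comb c360 b361 (Nat.zero_le _) (Nat.le_of_ble_eq_true rfl) rfl

theorem c362 : Block F al 0 92928 18195 :=
  block_comb c361 b362 (Nat.zero_le _) (Nat.le_of_ble_eq_true rfl) rfl

theorem c363 : Block F al 0 93184 18345 :=
  block_comb c362 b363 (Nat.zero_le _) (Nat.le_of_ble_eq_true rfl) rfl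

theorem c364 : Block F al 0 93440 18471 :=
  block_comb c363 b364 (Nat.zero_le _) (Nat.le_of_ble_eq_true rfl) rfl

theorem c365 : Block F al 0 93696 18580 :=
  block_comb c364 b365 (Nat.zero_le _) (Nat.le_of_ble_eq_true rfl) rfl

theorem c366 : Block F al 0 93952 18636 :=
  block_comb c365 b366 (Nat.zero_le _) (Nat.le_of_ble_eq_true rfl) rfl

theorem c367 : Block F al 0 94208 18751 :=
  block_comb c366 b367 (Nat.zero_le _) (Nat.le_of_ble_eq_true rfl) rfl

theorem c368 : Block F al 0 94464 18757 :=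
  block_comb c367 b368 (Nat.zero_le _) (Nat.le_of_ble_eq_true rfl) rfl

theorem c369 : Block F al 0 94720 18802 :=
  block_comb c368 b369 (Nat.zero_le _) (Nat.le_of_ble_eq_true rfl) rfl

theorem c370 : Block F al 0 94976 18852 :=
  block_comb c369 b370 (Nat.zero_le _) (Nat.le_of_ble_eq_true rfl) rfl

theorem c371 : Block F al 0 95232 18999 :=
  block_comb c370 b371 (Nat.zero_le _) (Nat.le_of_ble_eq_true rfl) rfl

theorem c372 : Block F al 0 95488 19052 :=
  block_comb c371 b372 (Nat.zero_le _) (Nat.le_of_ble_eq_true rfl) rfl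

theorem c373 : Block F al 0 95744 19200 :=
  block_comb c372 b373 (Nat.zero_le _) (Nat.le_of_ble_eq_true rfl) rfl

theorem c374 : Block F al 0 96000 19331 :=
  block_comb c373 b374 (Nat.zero_le _) (Nat.le_of_ble_eq_true rfl) rfl

theorem c375 : Block F al 0 96256 19418 :=
  block_comb c374 b375 (Nat.zero_le _) (Nat.le_of_ble_eq_true rfl) rfl

theorem c376 : Block F al 0 96512 19516 :=
  block_comb c375 b376 (Nat.zero_le _) (Nat.le_of_ble_eq_true rfl) rfl

theorem c377 : Block F al 0 96768 19536 :=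
  block_comb c376 b377 (Nat.zero_le _) (Nat.le_of_ble_eq_true rfl) rfl

theorem c378 : Block F al 0 97024 19585 :=
  block_comb c377 b378 (Nat.zero_le _) (Nat.le_of_ble_eq_true rfl) rfl

theorem c379 : Block F al 0 97280 19676 :=
  block_comb c378 b379 (Nat.zero_le _) (Nat.le_of_ble_eq_true rfl) rfl

theorem c380 : Block F al 0 97536 19721 :=
  block_comb c379 b380 (Nat.zero_le _) (Nat.le_of_ble_eq_true rfl) rfl

theorem c381 : Block F al 0 97792 19723 :=
  block_comb c380 b381 (Nat.zero_le _) (Nat.le_of_ble_eq_true rfl) rfl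

theorem c382 : Block F al 0 98048 19762 :=
  block_comb c381 b382 (Nat.zero_le _) (Nat.le_of_ble_eq_true rfl) rfl

theorem c383 : Block F al 0 98304 19767 :=
  block_comb c382 b383 (Nat.zero_le _) (Nat.le_of_ble_eq_true rfl) rfl

theorem c384 : Block F al 0 98560 19798 :=
  block_comb c383 b384 (Nat.zero_le _) (Nat.le_of_ble_eq_true rfl) rfl

theorem c385 : Block F al 0 98816 20054 :=
  block_comb c384 b385 (Nat.zero_le _) (Nat.le_of_ble_eq_true rfl) rfl

theorem c386 : Block F al 0 99072 20310 :=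
  block_comb c385 b386 (Nat.zero_le _) (Nat.le_of_ble_eq_true rfl) rfl

theorem c387 : Block F al 0 99328 20566 :=
  block_comb c386 b387 (Nat.zero_le _) (Nat.le_of_ble_eq_true rfl) rfl

theorem c388 : Block F al 0 99584 20822 :=
  block_comb c387 b388 (Nat.zero_le _) (Nat.le_of_ble_eq_true rfl) rfl

theorem c389 : Block F al 0 99840 21078 :=
  block_comb c388 b389 (Nat.zero_le _) (Nat.le_of_ble_eq_true rfl) rfl

theorem c390 : Block F al 0 100096 21334 :=
  block_comb c389 b390 (Nat.zero_le _) (Nat.le_of_ble_eq_true rfl) rfl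

theorem c391 : Block F al 0 100352 21590 :=
  block_comb c390 b391 (Nat.zero_le _) (Nat.le_of_ble_eq_true rfl) rfl

theorem c392 : Block F al 0 100608 21846 :=
  block_comb c391 b392 (Nat.zero_le _) (Nat.le_of_ble_eq_true rfl) rfl

theorem c393 : Block F al 0 100864 22102 :=
  block_comb c392 b393 (Nat.zero_le _) (Nat.le_of_ble_eq_true rfl) rfl

theorem c394 : Block F al 0 101120 22358 :=
  block_comb c393 b394 (Nat.zero_le _) (Nat.le_of_ble_eq_true rfl) rfl

theorem c395 : Block F al 0 101376 22614 :=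
  block_comb c394 b395 (Nat.zero_le _) (Nat.le_of_ble_eq_true rfl) rfl

theorem c396 : Block F al 0 101632 22870 :=
  block_comb c395 b396 (Nat.zero_le _) (Nat.le_of_ble_eq_true rfl) rfl

theorem c397 : Block F al 0 101888 23126 :=
  block_comb c396 b397 (Nat.zero_le _) (Nat.le_of_ble_eq_true rfl) rfl

theorem c398 : Block F al 0 102144 23382 :=
  block_comb c397 b398 (Nat.zero_le _) (Nat.le_of_ble_eq_true rfl) rfl

theorem c399 : Block F al 0 102400 23638 :=
  block_comb c398 b399 (Nat.zero_le _) (Nat.le_of_ble_eq_true rfl) rfl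

theorem c400 : Block F al 0 102656 23894 :=
  block_comb c399 b400 (Nat.zero_le _) (Nat.le_of_ble_eq_true rfl) rfl

theorem c401 : Block F al 0 102912 24150 :=
  block_comb c400 b401 (Nat.zero_le _) (Nat.le_of_ble_eq_true rfl) rfl

theorem c402 : Block F al 0 103168 24406 :=
  block_comb c401 b402 (Nat.zero_le _) (Nat.le_of_ble_eq_true rfl) rfl

theorem c403 : Block F al 0 103424 24662 :=
  block_comb c402 b403 (Nat.zero_le _) (Nat.le_of_ble_eq_true rfl) rfl

theorem c404 : Block F al 0 103680 24918 :=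
  block_comb c403 b404 (Nat.zero_le _) (Nat.le_of_ble_eq_true rfl) rfl

theorem c405 : Block F al 0 103936 25174 :=
  block_comb c404 b405 (Nat.zero_le _) (Nat.le_of_ble_eq_true rfl) rfl

theorem c406 : Block F al 0 104192 25430 :=
  block_comb c405 b406 (Nat.zero_le _) (Nat.le_of_ble_eq_true rfl) rfl

theorem c407 : Block F al 0 104448 25686 :=
  block_comb c406 b407 (Nat.zero_le _) (Nat.le_of_ble_eq_true rfl) rfl

theorem c408 : Block F al 0 104704 25942 :=
  block_comb c407 b408 (Nat.zero_le _) (Nat.le_of_ble_eq_true rfl) rfl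

theorem c409 : Block F al 0 104960 26198 :=
  block_comb c408 b409 (Nat.zero_le _) (Nat.le_of_ble_eq_true rfl) rfl

theorem c410 : Block F al 0 105216 26454 :=
  block_comb c409 b410 (Nat.zero_le _) (Nat.le_of_ble_eq_true rfl) rfl

theorem c411 : Block F al 0 105472 26710 :=
  block_comb c410 b411 (Nat.zero_le _) (Nat.le_of_ble_eq_true rfl) rfl

theorem c412 : Block F al 0 105728 26966 :=
  block_comb c411 b412 (Nat.zero_le _) (Nat.le_of_ble_eq_true rfl) rfl

theorem c413 : Block F al 0 105984 27222 :=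
  block_comb c412 b413 (Nat.zero_le _) (Nat.le_of_ble_eq_true rfl) rfl

theorem c414 : Block F al 0 106240 27478 :=
  block_comb c413 b414 (Nat.zero_le _) (Nat.le_of_ble_eq_true rfl) rfl

theorem c415 : Block F al 0 106496 27734 :=
  block_comb c414 b415 (Nat.zero_le _) (Nat.le_of_ble_eq_true rfl) rfl

theorem c416 : Block F al 0 106752 27990 :=
  block_comb c415 b416 (Nat.zero_le _) (Nat.le_of_ble_eq_true rfl) rfl

theorem c417 : Block F al 0 107008 28246 :=
  block_comb c416 b417 (Nat.zero_le _) (Nat.le_of_ble_eq_true rfl) rfl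

theorem c418 : Block F al 0 107264 28431 :=
  block_comb c417 b418 (Nat.zero_le _) (Nat.le_of_ble_eq_true rfl) rfl

end Cfsg.Agent.TcData.SY224c.I28431
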